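import Groth.Agent.StkTopLib.Sub

/-!
# Gluing
-/

set_option autoImplicit false
set_option backward.isDefEq.respectTransparency false
set_option backward.isDefEq.respectTransparency.types false

universe v₁ u₁ v₂ u₂ v₃ u₃ v u

open CategoryTheory FibCat FibLib AlgStLib
open CategoryTheory.Functor (Fiber IsStronglyCartesian)

namespace StkTopLib

variable {C : Type u} [Category.{v} C] {𝒳 : BasedCategory.{v₁, u₁} C} {𝒴 : BasedCategory.{v₂, u₂} C}

/-- A functor into the vertical essential image of a fully faithful functor factors. -/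
theorem exists_factor {𝒲 : BasedCategory.{v₃, u₃} C} (F : 𝒳 ⥤ᵇ 𝒴) [F.toFunctor.Full] [F.toFunctor.Faithful]
    (K : 𝒲 ⥤ᵇ 𝒴) (h : ∀ w, ∃ (x : 𝒳.obj) (e : F.obj x ≅ K.obj w), 𝒴.p.IsHomLift (𝟙 (𝒲.p.obj w)) e.hom) :
    ∃ L : 𝒲 ⥤ᵇ 𝒳, Nonempty (BasedFunctor.comp L F ≅ K) := by
  choose g e he using h
  have hobj : ∀ w, 𝒳.p.obj (g w) = 𝒲.p.obj w := fun w =>
    (F.w_obj (g w)).symm.trans (IsHomLift.domain_eq 𝒴.p (𝟙 (𝒲.p.obj w)) (e w).hom)
  let L₀ : 𝒲.obj ⥤ 𝒳.obj :=
    { obj := g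
      map := fun {a b} f => F.toFunctor.preimage ((e a).hom ≫ K.map f ≫ (e b).inv)
      map_id := fun a => F.toFunctor.map_injective (by simp)
      map_comp := fun f f' => F.toFunctor.map_injective (by simp) }
  have hlift : ∀ {a b : 𝒲.obj} (f : a ⟶ b), 𝒳.p.IsHomLift (𝒲.p.map f) (L₀.map f) := by
    intro a b f
    haveI := he a
    haveI := he b
    haveI : 𝒴.p.IsHomLift (𝟙 (𝒲.p.obj b)) (e b).inv := IsHomLift.lift_id_inv 𝒴.p _ _
    haveI : 𝒴.p.IsHomLift (𝒲.p.map f) (K.map f) :=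
      @BasedFunctor.preserves_isHomLift _ _ _ _ K _ _ _ _ _ _ (IsHomLift.map 𝒲.p f)
    have : 𝒴.p.IsHomLift (𝒲.p.map f) (F.map (L₀.map f)) := by
      simp only [L₀, Functor.map_preimage]
      infer_instance
    exact F.isHomLift_map (𝒲.p.map f) _
  let L : 𝒲 ⥤ᵇ 𝒳 :=
    { toFunctor := L₀
      w := CategoryTheory.Functor.ext hobj (fun a b f => by
        haveI := hlift f
        exact IsHomLift.fac' 𝒳.p (𝒲.p.map f) (L₀.map f)) }
  exact ⟨L, ⟨BasedNatIso.mkNatIso (NatIso.ofComponents e (fun {a b} f => by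
    simp only [BasedFunctor.comp, Functor.comp_map, Functor.map_preimage, L, L₀]
    simp)) he⟩⟩

variable {J : GrothendieckTopology C}

theorem isEquivOver_iff_locEssSurj (h𝒳 : Stk.IsStack J 𝒳) (h𝒴 : Stk.IsStack J 𝒴) (F : 𝒳 ⥤ᵇ 𝒴)
    [F.toFunctor.Full] [F.toFunctor.Faithful] : IsEquivOver F ↔ LocEssSurj J F := by
  haveI := h𝒳.1
  haveI := h𝒴.1
  constructor
  · intro h y
    refine ⟨⊤, J.top_mem _, fun V f _ => ?_⟩
    obtain ⟨z, φ, hφ⟩ := IsFibGrpd.exists_lift (p := 𝒴.p) (x := y) f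
    obtain ⟨x, e, he⟩ := vertEssSurj_of_isEquivOver h z
    haveI := hφ
    haveI := he
    exact ⟨x, e.hom ≫ φ, IsHomLift.comp_lift_id_left' 𝒴.p (𝒴.p.obj z) e.hom f φ⟩
  · intro h
    refine isEquivOver_of_vertEssSurj F fun η => ?_
    obtain ⟨R, hR, hR'⟩ := h η
    let P : 𝒴.p.Fiber (𝒴.p.obj η) := ⟨η, rfl⟩
    let H := ofPoint P
    obtain ⟨ε⟩ := nonempty_evalAtId_ofPoint_iso P
    let T₀ : Over (𝒴.p.obj η) := Over.mk (𝟙 _)
    let ε₀ : H.obj T₀ ≅ η := (Functor.Fiber.fiberInclusion).mapIso ε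
    haveI hε₀ : 𝒴.p.IsHomLift (𝟙 (𝒴.p.obj η)) ε₀.hom := ε.hom.2
    have hfac : ∀ w : (Stk.sieveCat R).obj, ∃ (x : 𝒳.obj) (e : F.obj x ≅ H.obj w.obj),
        𝒴.p.IsHomLift (𝟙 w.obj.left) e.hom := fun w => by
      obtain ⟨x, φ, hφ⟩ := hR' w.obj.hom w.property
      haveI := hφ
      haveI : 𝒴.p.IsHomLift w.obj.hom (H.map (toId w.obj)) := lift_map H (toId w.obj)
      haveI : 𝒴.p.IsHomLift w.obj.hom (H.map (toId w.obj) ≫ ε₀.hom) :=
        IsHomLift.comp_lift_id_right 𝒴.p w.obj.hom (H.map (toId w.obj)) ε₀.hom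
      haveI := isStronglyCartesian_of_isFibGrpd (p := 𝒴.p) w.obj.hom (H.map (toId w.obj) ≫ ε₀.hom)
      haveI := isStronglyCartesian_of_isFibGrpd (p := 𝒴.p) w.obj.hom φ
      exact ⟨x, CategoryTheory.Functor.IsCartesian.domainUniqueUpToIso 𝒴.p w.obj.hom (H.map (toId w.obj) ≫ ε₀.hom) φ,
        inferInstance⟩
    obtain ⟨K, ⟨k⟩⟩ := exists_factor F (BasedFunctor.comp (Stk.sieveIncl R) H) hfac
    haveI hX : (Stk.resSieve R 𝒳).IsEquivalence := h𝒳.2 R hR
    haveI hY : (Stk.resSieve R 𝒴).IsEquivalence := h𝒴.2 R hR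
    obtain ⟨G, ⟨g⟩⟩ := hX.essSurj.mem_essImage K
    let j : BasedFunctor.comp G F ≅ H := (Stk.resSieve R 𝒴).preimageIso
      (whiskerRightIso' g F ≪≫ k : (Stk.resSieve R 𝒴).obj (BasedFunctor.comp G F) ≅ (Stk.resSieve R 𝒴).obj H)
    haveI : 𝒴.p.IsHomLift (𝟙 (𝒴.p.obj η)) (appIso j T₀).hom := BasedNatTrans.isHomLift j.hom rfl
    exact ⟨G.obj T₀, appIso j T₀ ≪≫ ε₀,
      inferInstanceAs (𝒴.p.IsHomLift (𝟙 (𝒴.p.obj η)) ((appIso j T₀).hom ≫ ε₀.hom))⟩

section Refine

variable [IsFibGrpd 𝒳.p] {U : C} {S R : Sieve U}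

/-- A smaller sieve inside a larger one. -/
abbrev sieveLe (h : S ≤ R) : Stk.sieveCat S ⥤ᵇ Stk.sieveCat R :=
  { toFunctor := ObjectProperty.lift _ (ObjectProperty.ι _) fun a => h _ a.property
    w := rfl }

/-- The slice of an object of a sieve, seen in the sieve. -/
abbrev sieveSlice (T : (Stk.sieveCat R).obj) : overCat T.obj.left ⥤ᵇ Stk.sieveCat R :=
  { toFunctor := ObjectProperty.lift _ (Over.map T.obj.hom) fun A => R.downward_closed T.property A.hom
    w := rfl }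

/-- The pullback sieve, seen in the sieve. -/
abbrev sieveSliceS (T : (Stk.sieveCat R).obj) :
    Stk.sieveCat (S.pullback T.obj.hom) ⥤ᵇ Stk.sieveCat S :=
  { toFunctor := ObjectProperty.lift _ (ObjectProperty.ι _ ⋙ Over.map T.obj.hom) fun a => a.property
    w := rfl }

/-- An object of a sieve is the image of the identity. -/
def sliceTopIso (T : (Stk.sieveCat R).obj) : (sieveSlice T).obj (Over.mk (𝟙 T.obj.left)) ≅ T :=
  ObjectProperty.isoMk _ (Over.isoMk (Iso.refl _) (by simp))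

@[simp] lemma sliceTopIso_hom_left (T : (Stk.sieveCat R).obj) : (sliceTopIso T).hom.hom.left = 𝟙 _ := rfl

@[simp] lemma sliceTopIso_inv_left (T : (Stk.sieveCat R).obj) : (sliceTopIso T).inv.hom.left = 𝟙 _ := rfl

lemma map_sieve_eq (K : Stk.sieveCat R ⥤ᵇ 𝒳) {a b : (Stk.sieveCat R).obj} (f : a ⟶ b) :
    𝒳.p.map (K.map f) = eqToHom (K.w_obj a) ≫ f.hom.left ≫ eqToHom (K.w_obj b).symm :=
  Functor.congr_hom K.w f

theorem restr_sieveLe_fullyFaithful (hSR : S ≤ R)
    (hR : ∀ ⦃V : C⦄ (f : V ⟶ U), R f → Stk.IsPrestackFor (S.pullback f) 𝒳) :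
    (Stk.restr (sieveLe hSR) 𝒳).Full ∧ (Stk.restr (sieveLe hSR) 𝒳).Faithful := by
  refine ⟨⟨fun {K L} δ => ?_⟩, ⟨fun {K L α β} h => bnt_ext fun T => ?_⟩⟩
  swap
  · obtain ⟨_, hF⟩ := hR T.obj.hom T.property
    have e : BasedCategory.whiskerLeft (sieveSlice T) α = BasedCategory.whiskerLeft (sieveSlice T) β :=
      hF.map_injective (bnt_ext fun a => congrArg (fun t => t.toNatTrans.app ((sieveSliceS T).obj a)) h)
    have e' : α.toNatTrans.app ((sieveSlice T).obj (Over.mk (𝟙 _))) =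
        β.toNatTrans.app ((sieveSlice T).obj (Over.mk (𝟙 _))) :=
      congrArg (fun t => t.toNatTrans.app (Over.mk (𝟙 _))) e
    rw [← cancel_epi (K.map (sliceTopIso T).hom), α.toNatTrans.naturality, β.toNatTrans.naturality, e']
  choose ε hε using fun T : (Stk.sieveCat R).obj =>
    (hR T.obj.hom T.property).1.map_surjective (X := BasedFunctor.comp (sieveSlice T) K)
      (Y := BasedFunctor.comp (sieveSlice T) L) (BasedCategory.whiskerLeft (sieveSliceS T) δ)
  let c : ∀ T, K.obj T ⟶ L.obj T := fun T =>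
    K.map (sliceTopIso T).inv ≫ (ε T).toNatTrans.app (Over.mk (𝟙 _)) ≫ L.map (sliceTopIso T).hom
  have hc : ∀ T, 𝒳.p.IsHomLift (𝟙 ((Stk.sieveCat R).p.obj T)) (c T) := fun T => by
    refine IsHomLift.of_fac' _ _ _ (K.w_obj T) (L.w_obj T) ?_
    show 𝒳.p.map (K.map _ ≫ _ ≫ L.map _) = _
    rw [𝒳.p.map_comp, 𝒳.p.map_comp, map_sieve_eq, map_sieve_eq]
    haveI : 𝒳.p.IsHomLift (𝟙 T.obj.left) ((ε T).toNatTrans.app (Over.mk (𝟙 _))) :=
      BasedNatTrans.isHomLift (ε T) rfl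
    rw [IsHomLift.fac' 𝒳.p (𝟙 T.obj.left) ((ε T).toNatTrans.app (Over.mk (𝟙 _)))]
    simp
    erw [Category.id_comp, Category.id_comp, eqToHom_trans]
  have hnat : ∀ ⦃T T' : (Stk.sieveCat R).obj⦄ (g : T ⟶ T'), K.map g ≫ c T' = c T ≫ L.map g := by
    intro T T' g
    let gM : overCat T.obj.left ⥤ᵇ overCat T'.obj.left := overMap g.hom.left
    let e : ∀ A : Over T.obj.left, (sieveSlice T).obj A ≅ (sieveSlice T').obj (gM.obj A) := fun A =>
      ObjectProperty.isoMk _ (Over.isoMk (Iso.refl _) (by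
        show 𝟙 _ ≫ (A.hom ≫ g.hom.left) ≫ T'.obj.hom = A.hom ≫ T.obj.hom
        rw [Category.id_comp, Category.assoc, Over.w g.hom]))
    let ε' : BasedFunctor.comp (sieveSlice T) K ⟶ BasedFunctor.comp (sieveSlice T) L :=
      { app := fun A => K.map (e A).hom ≫ (ε T').toNatTrans.app (gM.obj A) ≫ L.map (e A).inv
        naturality := fun A A' m => by
          show K.map ((sieveSlice T).map m) ≫ K.map (e A').hom ≫ _ ≫ L.map (e A').inv =
            (K.map (e A).hom ≫ _ ≫ L.map (e A).inv) ≫ L.map ((sieveSlice T).map m)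
          have h1 : (sieveSlice T).map m ≫ (e A').hom = (e A).hom ≫ (sieveSlice T').map (gM.map m) :=
            ObjectProperty.hom_ext _ (Over.OverMorphism.ext
              ((Category.comp_id _).trans (Category.id_comp _).symm))
          have h2 : (e A).inv ≫ (sieveSlice T).map m = (sieveSlice T').map (gM.map m) ≫ (e A').inv :=
            ObjectProperty.hom_ext _ (Over.OverMorphism.ext
              ((Category.id_comp _).trans (Category.comp_id _).symm))
          rw [← K.toFunctor.map_comp_assoc, h1, Category.assoc, Category.assoc, ← L.toFunctor.map_comp, h2,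
            K.toFunctor.map_comp, Category.assoc, L.toFunctor.map_comp]
          exact congrArg (K.map (e A).hom ≫ ·)
            (((ε T').toNatTrans.naturality_assoc (gM.map m) (L.map (e A').inv)))
        isHomLift' := fun A => by
          refine IsHomLift.of_fac' _ _ _ (K.w_obj _) (L.w_obj _) ?_
          show 𝒳.p.map (K.map _ ≫ _ ≫ L.map _) = _
          rw [𝒳.p.map_comp, 𝒳.p.map_comp, map_sieve_eq, map_sieve_eq]
          haveI : 𝒳.p.IsHomLift (𝟙 A.left) ((ε T').toNatTrans.app (gM.obj A)) :=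
            BasedNatTrans.isHomLift (ε T') rfl
          rw [IsHomLift.fac' 𝒳.p (𝟙 A.left) ((ε T').toNatTrans.app (gM.obj A))]
          simp [e]
          erw [Category.id_comp, Category.id_comp, eqToHom_trans] }
    have hε' : ε T = ε' := (hR T.obj.hom T.property).2.map_injective ((hε T).trans (bnt_ext fun a => by
      let a' : (Stk.sieveCat (S.pullback T'.obj.hom)).obj := ⟨gM.obj a.obj, by
        show S ((a.obj.hom ≫ g.hom.left) ≫ T'.obj.hom)
        rw [Category.assoc, Over.w g.hom]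
        exact a.property⟩
      let es : (sieveSliceS (S := S) T).obj a ≅ (sieveSliceS (S := S) T').obj a' :=
        ObjectProperty.isoMk _ ((ObjectProperty.ι _).mapIso (e a.obj))
      show δ.toNatTrans.app ((sieveSliceS T).obj a) = K.map (e a.obj).hom ≫ (ε T').toNatTrans.app a'.obj ≫
        L.map (e a.obj).inv
      rw [show (ε T').toNatTrans.app a'.obj = δ.toNatTrans.app ((sieveSliceS T').obj a') from
        congrArg (fun t => t.toNatTrans.app a') (hε T')]
      show _ = ((Stk.restr (sieveLe hSR) 𝒳).obj K).map es.hom ≫ δ.toNatTrans.app _ ≫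
        ((Stk.restr (sieveLe hSR) 𝒳).obj L).map es.inv
      refine Eq.symm ?_
      refine (δ.toNatTrans.naturality_assoc es.hom _).trans ?_
      erw [← CategoryTheory.Functor.map_comp, Iso.hom_inv_id, CategoryTheory.Functor.map_id]
      exact Category.comp_id _))
    let q : gM.obj (Over.mk (𝟙 _)) ⟶ Over.mk (𝟙 T'.obj.left) := toId _
    have h3 : (sliceTopIso T).inv ≫ (e (Over.mk (𝟙 _))).hom ≫ (sieveSlice T').map q =
        g ≫ (sliceTopIso T').inv :=
      ObjectProperty.hom_ext _ (Over.OverMorphism.ext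
        ((Category.id_comp _).trans ((Category.id_comp _).trans
          ((Category.id_comp _).trans (Category.comp_id _).symm))))
    have h4 : (e (Over.mk (𝟙 _))).inv ≫ (sliceTopIso T).hom ≫ g =
        (sieveSlice T').map q ≫ (sliceTopIso T').hom :=
      ObjectProperty.hom_ext _ (Over.OverMorphism.ext
        ((Category.id_comp _).trans ((Category.id_comp _).trans
          ((Category.comp_id _).trans (Category.id_comp _)).symm)))
    show _ = (K.map (sliceTopIso T).inv ≫ (ε T).toNatTrans.app _ ≫ L.map (sliceTopIso T).hom) ≫ L.map g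
    rw [hε']
    show K.map g ≫ c T' = (K.map (sliceTopIso T).inv ≫ (K.map (e _).hom ≫ (ε T').toNatTrans.app _ ≫
      L.map (e _).inv) ≫ L.map (sliceTopIso T).hom) ≫ L.map g
    simp only [Category.assoc, ← L.toFunctor.map_comp]
    rw [h4, L.toFunctor.map_comp]
    erw [← (ε T').toNatTrans.naturality_assoc q]
    simp only [c, BasedFunctor.comp, Functor.comp_map]
    rw [← K.toFunctor.map_comp_assoc, ← K.toFunctor.map_comp_assoc, ← h3, K.toFunctor.map_comp_assoc]
    simp only [K.toFunctor.map_comp, Category.assoc]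
  refine ⟨{ app := c, naturality := hnat, isHomLift' := hc }, bnt_ext fun s => ?_⟩
  show c ((sieveLe hSR).obj s) = δ.toNatTrans.app s
  let T := (sieveLe hSR).obj s
  let o : (Stk.sieveCat (S.pullback T.obj.hom)).obj := ⟨Over.mk (𝟙 _), by
    show S (𝟙 _ ≫ s.obj.hom)
    rw [Category.id_comp]
    exact s.property⟩
  let es : (sieveSliceS (S := S) T).obj o ≅ s :=
    ObjectProperty.isoMk _ ((ObjectProperty.ι _).mapIso (sliceTopIso T))
  show K.map (sliceTopIso T).inv ≫ (ε T).toNatTrans.app o.obj ≫ L.map (sliceTopIso T).hom = _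
  rw [show (ε T).toNatTrans.app o.obj = δ.toNatTrans.app ((sieveSliceS T).obj o) from
    congrArg (fun t => t.toNatTrans.app o) (hε T)]
  show ((Stk.restr (sieveLe hSR) 𝒳).obj K).map es.inv ≫ δ.toNatTrans.app _ ≫
    ((Stk.restr (sieveLe hSR) 𝒳).obj L).map es.hom = _
  rw [← δ.toNatTrans.naturality, ← CategoryTheory.Functor.map_comp_assoc, Iso.inv_hom_id, CategoryTheory.Functor.map_id]
  exact Category.id_comp _

theorem isStackFor_of_le (hSR : S ≤ R) (hS : Stk.IsStackFor S 𝒳)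
    (hR : ∀ ⦃V : C⦄ (f : V ⟶ U), R f → Stk.IsPrestackFor (S.pullback f) 𝒳) :
    Stk.IsStackFor R 𝒳 := by
  obtain ⟨_, _⟩ := restr_sieveLe_fullyFaithful hSR hR
  haveI : (Stk.resSieve S 𝒳).IsEquivalence := hS
  let i : Stk.resSieve S 𝒳 ≅ Stk.resSieve R 𝒳 ⋙ Stk.restr (sieveLe hSR) 𝒳 :=
    NatIso.ofComponents (fun G => Iso.refl _) (fun {G G'} α => bnt_ext fun a =>
      (Category.comp_id _).trans (Category.id_comp _).symm)
  haveI : (Stk.resSieve R 𝒳 ⋙ Stk.restr (sieveLe hSR) 𝒳).IsEquivalence := Functor.isEquivalence_of_iso i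
  haveI : (Stk.restr (sieveLe hSR) 𝒳).EssSurj := ⟨fun K =>
    ⟨(Stk.resSieve R 𝒳).obj ((Stk.resSieve R 𝒳 ⋙ Stk.restr (sieveLe hSR) 𝒳).objPreimage K),
      ⟨(Stk.resSieve R 𝒳 ⋙ Stk.restr (sieveLe hSR) 𝒳).objObjPreimageIso K⟩⟩⟩
  haveI : (Stk.restr (sieveLe hSR) 𝒳).IsEquivalence := { }
  exact Functor.isEquivalence_of_comp_right _ (Stk.restr (sieveLe hSR) 𝒳)

end Refine

end StkTopLib
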