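import Groth.Agent.StkTopLib.Local

/-!
# Full subcategories of stacks
-/

set_option autoImplicit false
set_option backward.isDefEq.respectTransparency false
set_option backward.isDefEq.respectTransparency.types false

universe v₁ u₁ v₂ u₂ v₃ u₃ v₄ u₄ v u

open CategoryTheory FibCat FibLib AlgStLib
open CategoryTheory.Functor (Fiber IsStronglyCartesian)

namespace StkTopLib

variable {C : Type u} [Category.{v} C] {𝒳 : BasedCategory.{v₁, u₁} C} {𝒴 : BasedCategory.{v₂, u₂} C}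

theorem postFun_fullyFaithful (F : 𝒳 ⥤ᵇ 𝒴) [F.toFunctor.Full] [F.toFunctor.Faithful]
    (𝒲 : BasedCategory.{v₃, u₃} C) : (postFun F 𝒲).Full ∧ (postFun F 𝒲).Faithful := by
  refine ⟨⟨fun {K L} α => ?_⟩, ⟨fun {K L a b} h => bnt_ext fun w =>
    F.toFunctor.map_injective (congrArg (fun t => t.toNatTrans.app w) h)⟩⟩
  choose c hc using fun w => F.toFunctor.map_surjective (X := K.obj w) (Y := L.obj w) (α.toNatTrans.app w)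
  refine ⟨{ app := c
            naturality := fun w w' m => F.toFunctor.map_injective ?_
            isHomLift' := fun w => ?_ }, bnt_ext hc⟩
  · rw [F.toFunctor.map_comp, F.toFunctor.map_comp, hc, hc]
    exact α.toNatTrans.naturality m
  · haveI : 𝒴.p.IsHomLift (𝟙 (𝒲.p.obj w)) (F.map (c w)) := by rw [hc]; exact α.isHomLift' w
    exact F.isHomLift_map (f := 𝟙 (𝒲.p.obj w)) (φ := c w)

theorem restr_fullyFaithful_of_fullyFaithful (F : 𝒳 ⥤ᵇ 𝒴) [F.toFunctor.Full] [F.toFunctor.Faithful]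
    {𝒜 : BasedCategory.{v₃, u₃} C} {ℬ : BasedCategory.{v₄, u₄} C} (ι : 𝒜 ⥤ᵇ ℬ)
    (h : (Stk.restr ι 𝒴).Full ∧ (Stk.restr ι 𝒴).Faithful) :
    (Stk.restr ι 𝒳).Full ∧ (Stk.restr ι 𝒳).Faithful := by
  obtain ⟨_, _⟩ := h
  obtain ⟨_, _⟩ := postFun_fullyFaithful F 𝒜
  obtain ⟨_, _⟩ := postFun_fullyFaithful F ℬ
  haveI := Functor.Full.of_iso (restrPostIso ι F)
  haveI := Functor.Faithful.of_iso (restrPostIso ι F)
  exact ⟨Functor.Full.of_comp_faithful (Stk.restr ι 𝒳) (postFun F 𝒜),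
    Functor.Faithful.of_comp (Stk.restr ι 𝒳) (postFun F 𝒜)⟩

theorem isFibGrpd_sub [IsFibGrpd 𝒳.p] (Q : ObjectProperty 𝒳.obj)
    (h1 : ∀ ⦃y x : 𝒳.obj⦄ (φ : y ⟶ x), Q x →
      ∃ (y' : 𝒳.obj) (e : y ≅ y'), Q y' ∧ 𝒳.p.IsHomLift (𝟙 (𝒳.p.obj y)) e.hom) :
    IsFibGrpd (Q.ι ⋙ 𝒳.p) where
  exists_lift {x V} f := by
    obtain ⟨y, φ, hφ⟩ := IsFibGrpd.exists_lift (p := 𝒳.p) (x := x.obj) f
    obtain ⟨y', e, hy', he⟩ := h1 φ x.property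
    haveI := hφ
    have hy : 𝒳.p.obj y = V := IsHomLift.domain_eq 𝒳.p f φ
    subst hy
    haveI := he
    haveI : 𝒳.p.IsHomLift (𝟙 (𝒳.p.obj y)) e.inv := IsHomLift.lift_id_inv 𝒳.p _ _
    haveI : 𝒳.p.IsHomLift f (e.inv ≫ φ) := IsHomLift.comp_lift_id_left' 𝒳.p (𝒳.p.obj y) e.inv f φ
    have hy'' : 𝒳.p.obj y' = 𝒳.p.obj y := IsHomLift.domain_eq 𝒳.p f (e.inv ≫ φ)
    let m : (⟨y', hy'⟩ : Q.FullSubcategory) ⟶ x := ObjectProperty.homMk (e.inv ≫ φ)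
    refine ⟨⟨y', hy'⟩, m, IsHomLift.of_fac _ _ m hy'' rfl ?_⟩
    show f = eqToHom hy''.symm ≫ 𝒳.p.map (e.inv ≫ φ) ≫ eqToHom rfl
    exact IsHomLift.fac 𝒳.p f (e.inv ≫ φ)
  isStronglyCartesian {y x} φ :=
    { toIsHomLift := IsHomLift.map (p := Q.ι ⋙ 𝒳.p) φ
      universal_property' := fun {a} g φ' hφ' => by
        haveI := IsFibGrpd.isStronglyCartesian (p := 𝒳.p) φ.hom
        haveI : 𝒳.p.IsHomLift (g ≫ 𝒳.p.map φ.hom) φ'.hom :=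
          IsHomLift.of_fac' _ _ _ rfl rfl (@IsHomLift.fac' _ _ _ _ (Q.ι ⋙ 𝒳.p) _ _ _ _ (g ≫ 𝒳.p.map φ.hom) φ' hφ')
        obtain ⟨χ, ⟨hχ, hχ'⟩, huniq⟩ := IsStronglyCartesian.universal_property' (p := 𝒳.p) (f := 𝒳.p.map φ.hom)
          (φ := φ.hom) g φ'.hom
        refine ⟨ObjectProperty.homMk χ, ⟨IsHomLift.of_fac' _ _ _ rfl rfl ?_, ObjectProperty.hom_ext _ hχ'⟩,
          fun χ' hh => ObjectProperty.hom_ext _ (huniq χ'.hom ⟨?_, congrArg (fun k => k.hom) hh.2⟩)⟩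
        · exact IsHomLift.fac' 𝒳.p g χ
        · haveI := hh.1
          exact IsHomLift.of_fac' _ _ _ rfl rfl (IsHomLift.fac' (Q.ι ⋙ 𝒳.p) g χ') }

variable {J : GrothendieckTopology C}

theorem isStack_sub (h𝒳 : Stk.IsStack J 𝒳) (Q : ObjectProperty 𝒳.obj)
    (h1 : ∀ ⦃y x : 𝒳.obj⦄ (φ : y ⟶ x), Q x →
      ∃ (y' : 𝒳.obj) (e : y ≅ y'), Q y' ∧ 𝒳.p.IsHomLift (𝟙 (𝒳.p.obj y)) e.hom)
    (h3 : ∀ ⦃U : C⦄ (R : Sieve U), R ∈ J U → ∀ (x : 𝒳.obj), 𝒳.p.obj x = U →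
      (∀ ⦃V : C⦄ (f : V ⟶ U), R f → ∀ (y : 𝒳.obj) (φ : y ⟶ x), 𝒳.p.IsHomLift f φ →
        ∃ (y' : 𝒳.obj) (e : y ≅ y'), Q y' ∧ 𝒳.p.IsHomLift (𝟙 V) e.hom) →
      ∃ (x' : 𝒳.obj) (e : x ≅ x'), Q x' ∧ 𝒳.p.IsHomLift (𝟙 U) e.hom) :
    Stk.IsStack J (BasedCategory.ofFunctor (Q.ι ⋙ 𝒳.p)) := by
  haveI := h𝒳.1
  let 𝒳' := BasedCategory.ofFunctor (Q.ι ⋙ 𝒳.p)
  haveI : IsFibGrpd 𝒳'.p := isFibGrpd_sub Q h1
  refine ⟨inferInstanceAs (IsFibGrpd 𝒳'.p), fun U R hR => ?_⟩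
  haveI hX : (Stk.resSieve R 𝒳).IsEquivalence := h𝒳.2 R hR
  let F : 𝒳' ⥤ᵇ 𝒳 := ⟨Q.ι, rfl⟩
  haveI : F.toFunctor.Full := inferInstanceAs Q.ι.Full
  haveI : F.toFunctor.Faithful := inferInstanceAs Q.ι.Faithful
  obtain ⟨hf, hff⟩ := restr_fullyFaithful_of_fullyFaithful F (Stk.sieveIncl R) ⟨hX.full, hX.faithful⟩
  refine { full := hf, faithful := hff, essSurj := ⟨fun K => ?_⟩ }
  obtain ⟨G, ⟨i⟩⟩ := hX.essSurj.mem_essImage (BasedFunctor.comp K F)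
  let T₀ : Over U := Over.mk (𝟙 U)
  have hx : 𝒳.p.obj (G.obj T₀) = U := G.w_obj T₀
  obtain ⟨x', e, hx', he⟩ := h3 R hR (G.obj T₀) hx fun V f hf y φ hφ => by
    haveI := hφ
    let T : (Stk.sieveCat R).obj := ⟨Over.mk f, hf⟩
    haveI : 𝒳.p.IsHomLift f (G.map (toId T.obj)) := lift_map G (toId T.obj)
    haveI := isStronglyCartesian_of_isFibGrpd (p := 𝒳.p) f φ
    haveI := isStronglyCartesian_of_isFibGrpd (p := 𝒳.p) f (G.map (toId T.obj))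
    let k := CategoryTheory.Functor.IsCartesian.domainUniqueUpToIso 𝒳.p f (G.map (toId T.obj)) φ
    haveI : 𝒳.p.IsHomLift (𝟙 V) (appIso i T).hom := BasedNatTrans.isHomLift i.hom rfl
    haveI : 𝒳.p.IsHomLift (𝟙 V) (G.map (𝟙 T.obj)) := lift_map G (𝟙 T.obj)
    exact ⟨(K.obj T).obj, k ≪≫ appIso i T, (K.obj T).property,
      inferInstanceAs (𝒳.p.IsHomLift (𝟙 V) (k.hom ≫ (appIso i T).hom))⟩
  haveI := he
  have hx'U : (Q.ι ⋙ 𝒳.p).obj ⟨x', hx'⟩ = U := IsHomLift.codomain_eq 𝒳.p (𝟙 U) e.hom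
  let P : 𝒳'.p.Fiber U := ⟨⟨x', hx'⟩, hx'U⟩
  obtain ⟨ε⟩ := nonempty_evalAtId_ofPoint_iso P
  let ε₀ : ((ofPoint P).obj T₀).obj ≅ x' := Q.ι.mapIso ((Functor.Fiber.fiberInclusion).mapIso ε)
  haveI : 𝒳.p.IsHomLift (𝟙 U) ε₀.hom := by
    haveI : 𝒳'.p.IsHomLift (𝟙 U) ε.hom.1 := ε.hom.2
    exact IsHomLift.of_fac' _ _ ε₀.hom (IsHomLift.domain_eq 𝒳'.p (𝟙 U) ε.hom.1)
      (IsHomLift.codomain_eq 𝒳'.p (𝟙 U) ε.hom.1) (IsHomLift.fac' 𝒳'.p (𝟙 U) ε.hom.1)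
  haveI : 𝒳.p.IsHomLift (𝟙 U) e.inv := IsHomLift.lift_id_inv 𝒳.p _ _
  obtain ⟨j⟩ := nonempty_iso_of_vert (BasedFunctor.comp (ofPoint P) F) G (ε₀ ≪≫ e.symm)
    (inferInstanceAs (𝒳.p.IsHomLift (𝟙 U) (ε₀.hom ≫ e.inv)))
  obtain ⟨_, _⟩ := postFun_fullyFaithful F (Stk.sieveCat R)
  exact ⟨ofPoint P, ⟨(postFun F (Stk.sieveCat R)).preimageIso
    ((Stk.resSieve R 𝒳).mapIso j ≪≫ i : (postFun F _).obj ((Stk.resSieve R 𝒳').obj (ofPoint P)) ≅ (postFun F _).obj K)⟩⟩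

end StkTopLib
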