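import Groth.Agent.AlgStLib.Stack
import Groth.Agent.FibLib.Yoneda

/-!
# Local arguments in stacks
-/

set_option autoImplicit false
set_option backward.isDefEq.respectTransparency false
set_option backward.isDefEq.respectTransparency.types false

universe v₁ u₁ v₂ u₂ v₃ u₃ v₄ u₄ v u

open CategoryTheory FibCat FibLib AlgStLib
open CategoryTheory.Functor (Fiber IsStronglyCartesian)

namespace StkTopLib

variable {C : Type u} [Category.{v} C] {𝒳 : BasedCategory.{v₁, u₁} C} {𝒴 : BasedCategory.{v₂, u₂} C}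
  {J : GrothendieckTopology C}

/-- Vertical morphisms of a prestack that agree locally are equal. -/
lemma vert_ext (h𝒳 : Stk.IsPrestack J 𝒳) {U : C} {t t' : 𝒳.obj} (a b : t ⟶ t')
    [ha : 𝒳.p.IsHomLift (𝟙 U) a] [hb : 𝒳.p.IsHomLift (𝟙 U) b] {R : Sieve U} (hR : R ∈ J U)
    (h : ∀ ⦃V : C⦄ (f : V ⟶ U), R f → ∃ (s : 𝒳.obj) (φ : s ⟶ t),
      𝒳.p.IsHomLift f φ ∧ φ ≫ a = φ ≫ b) : a = b := by
  haveI := h𝒳.1
  let x : 𝒳.p.Fiber U := ⟨t, IsHomLift.domain_eq 𝒳.p (𝟙 U) a⟩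
  let x' : 𝒳.p.Fiber U := ⟨t', IsHomLift.codomain_eq 𝒳.p (𝟙 U) a⟩
  let G := ofPoint x
  let H := ofPoint x'
  obtain ⟨e⟩ := nonempty_evalAtId_ofPoint_iso x
  obtain ⟨e'⟩ := nonempty_evalAtId_ofPoint_iso x'
  haveI := evalAtId_isEquivalence (𝒳 := 𝒳) (U := U)
  let A : x ⟶ x' := ⟨a, ha⟩
  let B : x ⟶ x' := ⟨b, hb⟩
  obtain ⟨α, hα⟩ := (evalAtId 𝒳 U).map_surjective (X := G) (Y := H) (e.hom ≫ A ≫ e'.inv)
  obtain ⟨β, hβ⟩ := (evalAtId 𝒳 U).map_surjective (X := G) (Y := H) (e.hom ≫ B ≫ e'.inv)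
  have hαβ : α = β := by
    haveI := (h𝒳.2 R hR).2
    refine (Stk.resSieve R 𝒳).map_injective (bnt_ext fun w => ?_)
    let T : Over U := w.obj
    change α.toNatTrans.app T = β.toNatTrans.app T
    haveI : 𝒳.p.IsHomLift T.hom (H.map (toId T)) := lift_map H (toId T)
    haveI : 𝒳.p.IsHomLift (𝟙 T.left) (α.toNatTrans.app T) := BasedNatTrans.isHomLift α rfl
    haveI : 𝒳.p.IsHomLift (𝟙 T.left) (β.toNatTrans.app T) := BasedNatTrans.isHomLift β rfl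
    refine IsStronglyCartesian.ext 𝒳.p T.hom (H.map (toId T)) (𝟙 T.left) ?_
    refine (α.toNatTrans.naturality (toId T)).symm.trans (Eq.trans ?_ (β.toNatTrans.naturality (toId T)))
    have hα' : α.toNatTrans.app (Over.mk (𝟙 U)) = e.hom.1 ≫ a ≫ e'.inv.1 := congrArg Subtype.val hα
    have hβ' : β.toNatTrans.app (Over.mk (𝟙 U)) = e.hom.1 ≫ b ≫ e'.inv.1 := congrArg Subtype.val hβ
    rw [hα', hβ']
    obtain ⟨s, φ, hφ, hφab⟩ := h T.hom w.property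
    haveI := hφ
    haveI : 𝒳.p.IsHomLift (𝟙 U) e.hom.1 := e.hom.2
    haveI : 𝒳.p.IsHomLift T.hom (G.map (toId T)) := lift_map G (toId T)
    haveI : 𝒳.p.IsHomLift T.hom (G.map (toId T) ≫ e.hom.1) :=
      IsHomLift.comp_lift_id_right 𝒳.p T.hom (G.map (toId T)) e.hom.1
    let χ := IsStronglyCartesian.map 𝒳.p T.hom φ (g := 𝟙 T.left) (Category.id_comp _).symm
      (G.map (toId T) ≫ e.hom.1)
    have hχ : χ ≫ φ = G.map (toId T) ≫ e.hom.1 :=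
      IsStronglyCartesian.fac 𝒳.p T.hom φ _ _
    rw [← reassoc_of% hχ, ← reassoc_of% hχ, reassoc_of% hφab]
  have hAB : e.hom ≫ A ≫ e'.inv = e.hom ≫ B ≫ e'.inv := hα.symm.trans ((congrArg _ hαβ).trans hβ)
  exact congrArg Subtype.val ((cancel_mono e'.inv).1 ((cancel_epi e.hom).1 hAB))

/-- Every object is locally in the essential image. -/
def LocEssSurj (J : GrothendieckTopology C) (F : 𝒳 ⥤ᵇ 𝒴) : Prop :=
  ∀ y : 𝒴.obj, ∃ R ∈ J (𝒴.p.obj y), ∀ ⦃V : C⦄ (f : V ⟶ 𝒴.p.obj y), R f →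
    ∃ (x : 𝒳.obj) (φ : F.obj x ⟶ y), 𝒴.p.IsHomLift f φ

lemma LocEssSurj.exists_cover {F : 𝒳 ⥤ᵇ 𝒴} (hF : LocEssSurj J F) (y : 𝒴.obj) {U : C} (h : 𝒴.p.obj y = U) :
    ∃ R ∈ J U, ∀ ⦃V : C⦄ (f : V ⟶ U), R.arrows f → ∃ (x : 𝒳.obj) (φ : F.obj x ⟶ y), 𝒴.p.IsHomLift f φ := by
  subst h
  exact hF y

section Fp

variable {𝒯 : BasedCategory.{v₃, u₃} C} {F : 𝒳 ⥤ᵇ 𝒴} {G : 𝒯 ⥤ᵇ 𝒴}

lemma exists_fp_obj [IsFibGrpd 𝒴.p] [IsFibGrpd 𝒯.p] {V : C} {U : C} (f : V ⟶ U) {x : 𝒳.obj} {s t : 𝒯.obj}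
    (φ : F.obj x ⟶ G.obj t) [𝒴.p.IsHomLift f φ] (ψ : s ⟶ t) [𝒯.p.IsHomLift f ψ] :
    ∃ e : F.obj x ≅ G.obj s, 𝒴.p.IsHomLift (𝟙 V) e.hom ∧ e.hom ≫ G.map ψ = φ := by
  let k := IsStronglyCartesian.map 𝒴.p f (G.map ψ) (g := 𝟙 V) (Category.id_comp f).symm φ
  haveI : 𝒴.p.IsHomLift (𝟙 V) k := IsStronglyCartesian.map_isHomLift 𝒴.p f (G.map ψ) _ φ
  haveI := isIso_of_isHomLift (p := 𝒴.p) (𝟙 V) k
  exact ⟨asIso k, inferInstanceAs (𝒴.p.IsHomLift (𝟙 V) k), IsStronglyCartesian.fac 𝒴.p f (G.map ψ) (g := 𝟙 V) (Category.id_comp f).symm φ⟩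

theorem faithful_of_faithful_fpFst (h𝒴 : IsFibGrpd 𝒴.p) (h𝒯 : Stk.IsPrestack J 𝒯) (hF : LocEssSurj J F)
    (hG' : (fpFst F G).toFunctor.Faithful) : G.toFunctor.Faithful := by
  haveI := h𝒯.1
  refine faithful_of_fiber G (preservesStronglyCartesian_of_isFibGrpd G) fun U => ⟨fun {t t' a b} hab => ?_⟩
  apply Fiber.hom_ext
  have hG : G.map a.1 = G.map b.1 := congrArg Subtype.val hab
  haveI ha : 𝒯.p.IsHomLift (𝟙 U) a.1 := a.2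
  haveI hb : 𝒯.p.IsHomLift (𝟙 U) b.1 := b.2
  have hU : 𝒴.p.obj (G.obj t'.1) = U := (G.w_obj t'.1).trans t'.2
  obtain ⟨R, hR, hR'⟩ := hF.exists_cover (G.obj t'.1) hU
  refine vert_ext h𝒯 a.1 b.1 hR fun V f hf => ?_
  obtain ⟨x, φ, hφ⟩ := hR' f hf
  obtain ⟨s', ψ', hψ'⟩ := exists_lift 𝒯.p t'.2 f
  obtain ⟨s, ψ, hψ⟩ := exists_lift 𝒯.p t.2 f
  refine ⟨s, ψ, hψ, ?_⟩
  have key : ∀ (c : t.1 ⟶ t'.1) [𝒯.p.IsHomLift (𝟙 U) c], ∃ c' : s ⟶ s', 𝒯.p.IsHomLift (𝟙 V) c' ∧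
      c' ≫ ψ' = ψ ≫ c := fun c _ => by
    haveI : 𝒯.p.IsHomLift f (ψ ≫ c) := IsHomLift.comp_lift_id_right 𝒯.p f ψ c
    exact ⟨IsStronglyCartesian.map 𝒯.p f ψ' (g := 𝟙 V) (Category.id_comp f).symm (ψ ≫ c),
      IsStronglyCartesian.map_isHomLift 𝒯.p f ψ' _ _, IsStronglyCartesian.fac 𝒯.p f ψ' _ _⟩
  obtain ⟨a', ha', hea⟩ := key a.1
  obtain ⟨b', hb', heb⟩ := key b.1
  have hGab : G.map a' = G.map b' := by
    refine IsStronglyCartesian.ext 𝒴.p f (G.map ψ') (𝟙 V) ?_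
    rw [← G.toFunctor.map_comp, ← G.toFunctor.map_comp, hea, heb, G.toFunctor.map_comp,
      G.toFunctor.map_comp, hG]
  haveI := isIso_of_isHomLift (p := 𝒯.p) (𝟙 V) a'
  obtain ⟨e', he', -⟩ := exists_fp_obj (F := F) f φ ψ'
  have hx : 𝒳.p.obj x = V := (F.w_obj x).symm.trans (IsHomLift.domain_eq 𝒴.p f φ)
  let e : F.obj x ≅ G.obj s := e' ≪≫ (G.toFunctor.mapIso (asIso a')).symm
  haveI : 𝒴.p.IsHomLift (𝟙 V) (G.toFunctor.mapIso (asIso a')).inv := by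
    haveI : 𝒴.p.IsHomLift (𝟙 V) (G.toFunctor.mapIso (asIso a')).hom :=
      inferInstanceAs (𝒴.p.IsHomLift (𝟙 V) (G.map a'))
    exact IsHomLift.lift_id_inv 𝒴.p V _
  haveI he : 𝒴.p.IsHomLift (𝟙 V) e.hom :=
    inferInstanceAs (𝒴.p.IsHomLift (𝟙 V) (e'.hom ≫ (G.toFunctor.mapIso (asIso a')).inv))
  let ξ : (fp F G).obj := fpObj x s e (hx ▸ he)
  let ξ' : (fp F G).obj := fpObj x s' e' (hx ▸ he')
  have w : ∀ c : s ⟶ s', G.map c = G.map a' →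
      F.map (𝟙 x) ≫ e'.hom = e.hom ≫ G.map c := fun c hc => by
    rw [hc, F.toFunctor.map_id]
    simp [e]
  have := congrArg (fun k => k.hom.snd) ((fpFst F G).toFunctor.map_injective
    (a₁ := (fpHom (x := ξ) (y := ξ') (𝟙 x) a' (w a' rfl))) (a₂ := fpHom (𝟙 x) b' (w b' hGab.symm)) rfl)
  have e'' : a' = b' := this
  rw [← hea, ← heb, e'']

theorem isFibSetoid_of_isFibSetoid_fp [F.toFunctor.Full] (h𝒴 : IsFibGrpd 𝒴.p) (h𝒯 : Stk.IsPrestack J 𝒯)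
    (hF : LocEssSurj J F) (h : IsFibSetoid (fp F G).p) : IsFibSetoid 𝒯.p := by
  haveI := h𝒯.1
  refine ⟨h𝒯.1, fun U t t' => ⟨fun a b => ?_⟩⟩
  apply Fiber.hom_ext
  haveI ha : 𝒯.p.IsHomLift (𝟙 U) a.1 := a.2
  haveI hb : 𝒯.p.IsHomLift (𝟙 U) b.1 := b.2
  have hU : 𝒴.p.obj (G.obj t'.1) = U := (G.w_obj t'.1).trans t'.2
  obtain ⟨R, hR, hR'⟩ := hF.exists_cover (G.obj t'.1) hU
  refine vert_ext h𝒯 a.1 b.1 hR fun V f hf => ?_
  obtain ⟨x, φ, hφ⟩ := hR' f hf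
  obtain ⟨s', ψ', hψ'⟩ := exists_lift 𝒯.p t'.2 f
  obtain ⟨s, ψ, hψ⟩ := exists_lift 𝒯.p t.2 f
  refine ⟨s, ψ, hψ, ?_⟩
  have key : ∀ (c : t.1 ⟶ t'.1) [𝒯.p.IsHomLift (𝟙 U) c], ∃ c' : s ⟶ s', 𝒯.p.IsHomLift (𝟙 V) c' ∧
      c' ≫ ψ' = ψ ≫ c := fun c _ => by
    haveI : 𝒯.p.IsHomLift f (ψ ≫ c) := IsHomLift.comp_lift_id_right 𝒯.p f ψ c
    exact ⟨IsStronglyCartesian.map 𝒯.p f ψ' (g := 𝟙 V) (Category.id_comp f).symm (ψ ≫ c),
      IsStronglyCartesian.map_isHomLift 𝒯.p f ψ' _ _, IsStronglyCartesian.fac 𝒯.p f ψ' _ _⟩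
  obtain ⟨a', ha', hea⟩ := key a.1
  obtain ⟨b', hb', heb⟩ := key b.1
  haveI := isIso_of_isHomLift (p := 𝒯.p) (𝟙 V) a'
  obtain ⟨e', he', -⟩ := exists_fp_obj (F := F) f φ ψ'
  have hx : 𝒳.p.obj x = V := (F.w_obj x).symm.trans (IsHomLift.domain_eq 𝒴.p f φ)
  subst hx
  let ξ' : (fp F G).obj := fpObj x s' e' he'
  let e : F.obj x ≅ G.obj s := e' ≪≫ (G.toFunctor.mapIso (asIso a')).symm
  haveI : 𝒴.p.IsHomLift (𝟙 (𝒳.p.obj x)) (G.toFunctor.mapIso (asIso a')).inv := by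
    haveI : 𝒴.p.IsHomLift (𝟙 (𝒳.p.obj x)) (G.toFunctor.mapIso (asIso a')).hom :=
      inferInstanceAs (𝒴.p.IsHomLift (𝟙 _) (G.map a'))
    exact IsHomLift.lift_id_inv 𝒴.p _ _
  haveI he : 𝒴.p.IsHomLift (𝟙 (𝒳.p.obj x)) e.hom :=
    inferInstanceAs (𝒴.p.IsHomLift (𝟙 _) (e'.hom ≫ (G.toFunctor.mapIso (asIso a')).inv))
  let ξ : (fp F G).obj := fpObj x s e he
  obtain ⟨d, hd⟩ := F.toFunctor.map_surjective (e.hom ≫ G.map b' ≫ e'.inv)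
  haveI : 𝒴.p.IsHomLift (𝟙 (𝒳.p.obj x)) (F.map d) := by rw [hd]; infer_instance
  haveI hd' : 𝒳.p.IsHomLift (𝟙 (𝒳.p.obj x)) d := F.isHomLift_map _ _
  let m₁ : ξ ⟶ ξ' := fpHom (𝟙 x) a' (by
    change F.map (𝟙 x) ≫ e'.hom = e.hom ≫ G.map a'
    rw [F.toFunctor.map_id]; simp [e])
  let m₂ : ξ ⟶ ξ' := fpHom d b' (by
    change F.map d ≫ e'.hom = e.hom ≫ G.map b'
    rw [hd]; simp)
  haveI : 𝒳.p.IsHomLift (𝟙 (𝒳.p.obj x)) m₁.hom.fst := IsHomLift.id rfl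
  haveI : 𝒳.p.IsHomLift (𝟙 (𝒳.p.obj x)) m₂.hom.fst := hd'
  haveI := isHomLift_of_fst (𝟙 (𝒳.p.obj x)) m₁
  haveI := isHomLift_of_fst (𝟙 (𝒳.p.obj x)) m₂
  have h2 := (h.2 (𝒳.p.obj x) ⟨ξ, rfl⟩ ⟨ξ', rfl⟩).elim ⟨m₁, inferInstance⟩ ⟨m₂, inferInstance⟩
  have e'' : a' = b' := congrArg (fun k => k.1.hom.snd) h2
  rw [← hea, ← heb, e'']

end Fp

section Covering

variable {𝒵 : BasedCategory.{v₃, u₃} C}

/-- Every object over a slice is locally in the essential image. -/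
def Covering (J : GrothendieckTopology C) (F : 𝒳 ⥤ᵇ 𝒴) : Prop :=
  ∀ (U : C) (y : overCat U ⥤ᵇ 𝒴), ∃ R ∈ J U, ∀ ⦃V : C⦄ (h : V ⟶ U), R.arrows h →
    ∃ x : overCat V ⥤ᵇ 𝒳, Nonempty (BasedFunctor.comp x F ≅ BasedFunctor.comp (overMap h) y)

/-- `Over.map` is functorial over the base. -/
def overMapCompIso {U V W : C} (g : W ⟶ V) (h : V ⟶ U) :
    BasedFunctor.comp (overMap g) (overMap h) ≅ overMap (g ≫ h) :=
  BasedNatIso.mkNatIso (Over.mapComp g h).symm (fun T =>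
    IsHomLift.of_fac _ _ _ rfl rfl (by simp [Over.mapComp]; rfl))

theorem covering_comp {F : 𝒳 ⥤ᵇ 𝒴} {G : 𝒴 ⥤ᵇ 𝒵} (hF : Covering J F) (hG : Covering J G) :
    Covering J (BasedFunctor.comp F G) := by
  intro U y
  obtain ⟨R, hR, hx⟩ := hG U y
  choose x e using hx
  choose R' hR' hx' using fun {V : C} (h : V ⟶ U) (hh : R.arrows h) => hF V (x h hh)
  refine ⟨Sieve.bind R.arrows (fun V h hh => R' h hh),
    J.bind_covering (R := fun V h hh => R' h hh) hR (fun V h hh => hR' h hh), ?_⟩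
  rintro W _ ⟨V, g, h, hh, hg, rfl⟩
  obtain ⟨x', ⟨e'⟩⟩ := hx' h hh g hg
  obtain ⟨e⟩ := e h hh
  exact ⟨x', ⟨whiskerRightIso' e' G ≪≫ whiskerLeftIso' (overMap g) e ≪≫
    whiskerRightIso' (overMapCompIso g h) y⟩⟩

theorem covering_fpFst {F : 𝒳 ⥤ᵇ 𝒴} (G : 𝒵 ⥤ᵇ 𝒴) (hF : Covering J F) :
    Covering J (fpFst G F) := by
  intro U y
  obtain ⟨R, hR, hx⟩ := hF U (BasedFunctor.comp y G)
  refine ⟨R, hR, fun V h hh => ?_⟩
  obtain ⟨x, ⟨e⟩⟩ := hx h hh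
  exact ⟨fpLift (BasedFunctor.comp (overMap h) y) x e.symm, ⟨Iso.refl _⟩⟩

end Covering

section Postcomp

variable [IsFibGrpd 𝒳.p] [IsFibGrpd 𝒴.p] (F : 𝒳 ⥤ᵇ 𝒴)

/-- Postcomposition is the functor on fibres. -/
def postEvalIso (U : C) :
    postFun F (overCat U) ⋙ evalAtId 𝒴 U ≅ evalAtId 𝒳 U ⋙ fiberFunctor F U :=
  NatIso.ofComponents (fun _ => Iso.refl _) (fun α => by
    simp only [Iso.refl_hom, Category.comp_id, Category.id_comp]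
    exact Fiber.hom_ext rfl)

theorem fullyFaithful_iff_postFun :
    (F.toFunctor.Full ∧ F.toFunctor.Faithful) ↔
      ∀ U : C, (postFun F (overCat U)).Full ∧ (postFun F (overCat U)).Faithful := by
  constructor
  · rintro ⟨_, _⟩ U
    haveI := evalAtId_isEquivalence (𝒳 := 𝒳) (U := U)
    haveI := evalAtId_isEquivalence (𝒳 := 𝒴) (U := U)
    haveI := fiberFunctor_full (G := F) U
    haveI := fiberFunctor_faithful (G := F) U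
    haveI := Functor.Full.of_iso (postEvalIso F U).symm
    haveI := Functor.Faithful.of_iso (postEvalIso F U).symm
    exact ⟨Functor.Full.of_comp_faithful (postFun F (overCat U)) (evalAtId 𝒴 U),
      Functor.Faithful.of_comp (postFun F (overCat U)) (evalAtId 𝒴 U)⟩
  · intro h
    have hff : ∀ U, (fiberFunctor F U).Full ∧ (fiberFunctor F U).Faithful := fun U => by
      haveI := evalAtId_isEquivalence (𝒳 := 𝒳) (U := U)
      haveI := evalAtId_isEquivalence (𝒳 := 𝒴) (U := U)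
      haveI := (h U).1
      haveI := (h U).2
      let i : (evalAtId 𝒳 U).inv ⋙ (postFun F (overCat U) ⋙ evalAtId 𝒴 U) ≅ fiberFunctor F U :=
        Functor.isoWhiskerLeft _ (postEvalIso F U) ≪≫ (Functor.associator _ _ _).symm ≪≫
          Functor.isoWhiskerRight (evalAtId 𝒳 U).asEquivalence.counitIso _ ≪≫ Functor.leftUnitor _
      exact ⟨Functor.Full.of_iso i, Functor.Faithful.of_iso i⟩
    exact ⟨full_of_fiber F (preservesStronglyCartesian_of_isFibGrpd F) fun U => (hff U).1,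
      faithful_of_fiber F (preservesStronglyCartesian_of_isFibGrpd F) fun U => (hff U).2⟩

end Postcomp

end StkTopLib
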