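import Groth.Agent.FibLib.Basic
import Mathlib.CategoryTheory.Sites.InducedTopology
import Mathlib.CategoryTheory.Sites.Over

/-!
# The topology inherited by a category fibred in groupoids
-/

set_option autoImplicit false

universe v₃ u₃ v₂ u₂ v u

open CategoryTheory FibCat

namespace StkTopLib

variable {C : Type u} [Category.{v} C] {X : Type u₂} [Category.{v₂} X] (p : X ⥤ C) [hp : IsFibGrpd p]

/-- Lifts with prescribed target, in terms of `p.map`. -/
lemma exists_map_lift {x : X} {V : C} (f : V ⟶ p.obj x) :
    ∃ (y : X) (φ : y ⟶ x) (h : p.obj y = V), p.map φ = eqToHom h ≫ f := by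
  obtain ⟨y, φ, hφ⟩ := hp.exists_lift f
  refine ⟨y, φ, IsHomLift.domain_eq p f φ, ?_⟩
  rw [IsHomLift.fac' p f φ]
  simp

/-- Triangles in the base lift uniquely. -/
lemma exists_fill {x y z : X} (φ : y ⟶ x) (ψ : z ⟶ x) (g : p.obj z ⟶ p.obj y)
    (w : g ≫ p.map φ = p.map ψ) : ∃ χ : z ⟶ y, χ ≫ φ = ψ ∧ p.map χ = g := by
  haveI := hp.isStronglyCartesian φ
  let χ := Functor.IsStronglyCartesian.map p (p.map φ) φ (g := g) w.symm ψ
  refine ⟨χ, Functor.IsStronglyCartesian.fac p (p.map φ) φ w.symm ψ, ?_⟩
  haveI : p.IsHomLift g χ := Functor.IsStronglyCartesian.map_isHomLift p (p.map φ) φ w.symm ψ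
  exact (IsHomLift.eq_of_isHomLift p g χ).symm

lemma pushforward_map_iff {x y : X} (S : Sieve x) (φ : y ⟶ x) :
    S.functorPushforward p (p.map φ) ↔ S φ := by
  refine ⟨?_, fun h => Sieve.image_mem_functorPushforward p S h⟩
  rintro ⟨z, ψ, g, hψ, e⟩
  obtain ⟨χ, rfl, -⟩ := exists_fill p ψ φ g e.symm
  exact S.downward_closed hψ χ

lemma pushforward_pullback {x y : X} (S : Sieve x) (φ : y ⟶ x) :
    (S.pullback φ).functorPushforward p = (S.functorPushforward p).pullback (p.map φ) := by
  ext V f
  obtain ⟨z, ψ, h, e⟩ := exists_map_lift p f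
  subst h
  rw [eqToHom_refl, Category.id_comp] at e
  rw [← e, Sieve.pullback_apply, ← p.map_comp, pushforward_map_iff, pushforward_map_iff]
  rfl

lemma pushforward_pullback_eq (x : X) (R : Sieve (p.obj x)) :
    (R.functorPullback p).functorPushforward p = R := by
  ext V f
  obtain ⟨z, ψ, h, e⟩ := exists_map_lift p f
  subst h
  rw [eqToHom_refl, Category.id_comp] at e
  rw [← e, pushforward_map_iff]
  rfl

lemma pullback_pushforward_eq (x : X) (S : Sieve x) :
    (S.functorPushforward p).functorPullback p = S := by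
  ext y φ
  exact pushforward_map_iff p S φ

variable (J : GrothendieckTopology C)

/-- The sieves with covering image. -/
def topology : GrothendieckTopology X where
  sieves x := {S | S.functorPushforward p ∈ J (p.obj x)}
  top_mem' x := by
    show (⊤ : Sieve x).functorPushforward p ∈ J _
    rw [Sieve.functorPushforward_top]
    exact J.top_mem _
  pullback_stable' := by
    intro x y S φ hS
    show (S.pullback φ).functorPushforward p ∈ J _
    rw [pushforward_pullback]
    exact J.pullback_stable _ hS
  transitive' := by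
    intro x S hS R hR
    refine J.transitive hS _ fun V f hf => ?_
    obtain ⟨z, ψ, h, e⟩ := exists_map_lift p f
    subst h
    rw [eqToHom_refl, Category.id_comp] at e
    subst e
    rw [← pushforward_pullback]
    exact hR ((pushforward_map_iff p S ψ).1 hf)

theorem mem_restrictedTopology_iff {x : X} (S : Sieve x) :
    S ∈ p.restrictedTopology J x ↔ S.functorPushforward p ∈ J (p.obj x) := by
  refine ⟨fun h => ?_, Functor.mem_restrictedTopology_of_functorPushforward_mem⟩
  have hle : p.restrictedTopology J ≤ topology p J := by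
    rw [Functor.restrictedTopology, Precoverage.toGrothendieck_le_iff_le_toPrecoverage]
    intro y R hR
    show (Sieve.generate R).functorPushforward p ∈ J _
    rw [← Sieve.generate_map_eq_functorPushforward]
    exact hR
  exact hle _ h

lemma mem_restrictedTopology_iff_exists {x : X} (S : Sieve x) :
    S ∈ p.restrictedTopology J x ↔ ∃ R ∈ J (p.obj x), R.functorPullback p ≤ S := by
  rw [mem_restrictedTopology_iff]
  refine ⟨fun h => ⟨_, h, le_of_eq (pullback_pushforward_eq p x S)⟩, fun ⟨R, hR, h⟩ => ?_⟩
  refine J.superset_covering ?_ hR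
  rw [← pushforward_pullback_eq p x R]
  exact Sieve.functorPushforward_monotone p x h

theorem overPost_isEquivalence (x : X) : (Over.post p : Over x ⥤ Over (p.obj x)).IsEquivalence where
  faithful := ⟨fun {a b} f g h => by
    have e : p.map f.left = p.map g.left := congrArg CommaMorphism.left h
    haveI := hp.isStronglyCartesian b.hom
    haveI : p.IsHomLift (p.map f.left) g.left := e ▸ inferInstance
    exact Over.OverMorphism.ext (Functor.IsStronglyCartesian.ext p (p.map b.hom) b.hom (p.map f.left)
      ((Over.w f).trans (Over.w g).symm))⟩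
  full := ⟨fun {a b} g => by
    obtain ⟨χ, hχ, hχ'⟩ := exists_fill p b.hom a.hom g.left (Over.w g)
    exact ⟨Over.homMk χ hχ, Over.OverMorphism.ext hχ'⟩⟩
  essSurj := ⟨fun a => by
    obtain ⟨y, φ, h, e⟩ := exists_map_lift p a.hom
    exact ⟨Over.mk φ, ⟨Over.isoMk (eqToIso h) e.symm⟩⟩⟩

theorem mem_over_restrictedTopology_iff (x : X) (a : Over x) (S : Sieve a) :
    S ∈ (p.restrictedTopology J).over x a ↔
      S.functorPushforward (Over.post p) ∈ (J.over (p.obj x)) ((Over.post p).obj a) := by
  rw [GrothendieckTopology.mem_over_iff, GrothendieckTopology.mem_over_iff, mem_restrictedTopology_iff]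
  have e : (Sieve.overEquiv a S).functorPushforward p =
      Sieve.overEquiv ((Over.post p).obj a) (S.functorPushforward (Over.post p)) := by
    show ((S.functorPushforward (Over.forget x)).functorPushforward p) =
      (S.functorPushforward (Over.post p)).functorPushforward (Over.forget (p.obj x))
    rw [← Sieve.functorPushforward_comp, ← Sieve.functorPushforward_comp]
    rfl
  rw [e]
  rfl

end StkTopLib

namespace StkTopLib

section Map

variable {C : Type u} [Category.{v} C] {X : Type u₂} [Category.{v₂} X] {Y : Type u₃} [Category.{v₃} Y]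
  (F : X ⥤ Y) (q : Y ⥤ C) [IsFibGrpd q] [IsFibGrpd (F ⋙ q)] (J : GrothendieckTopology C)

lemma coverPreserving_map :
    CoverPreserving ((F ⋙ q).restrictedTopology J) (q.restrictedTopology J) F :=
  ⟨fun {x S} hS => by
    rw [mem_restrictedTopology_iff] at hS ⊢
    rw [← Sieve.functorPushforward_comp]
    exact hS⟩

lemma isCocontinuous_map :
    F.IsCocontinuous ((F ⋙ q).restrictedTopology J) (q.restrictedTopology J) :=
  ⟨fun {x S} hS => by
    rw [mem_restrictedTopology_iff] at hS ⊢
    have e : S.functorPullback F = (S.functorPushforward q).functorPullback (F ⋙ q) := by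
      ext y φ
      exact (pushforward_map_iff q S (F.map φ)).symm
    rw [e, pushforward_pullback_eq (F ⋙ q)]
    exact hS⟩

lemma compatiblePreserving_map :
    CompatiblePreserving (q.restrictedTopology J) F :=
  ⟨fun ℱ Z T ξ hξ a₁ a₂ W g₁ g₂ f₁ f₂ h₁ h₂ eq => by
    obtain ⟨b, β, hb, hβ⟩ := exists_map_lift (F ⋙ q) (q.map g₁ : q.obj W ⟶ (F ⋙ q).obj a₁)
    have hβ' : q.map (F.map β) = eqToHom hb ≫ q.map g₁ := hβ
    obtain ⟨α, hα, hα'⟩ := exists_fill q (F.map β) g₁ (eqToHom hb.symm) (by rw [hβ']; simp)
    obtain ⟨γ, hγ, hγ'⟩ := exists_fill (F ⋙ q) f₂ (β ≫ f₁) (eqToHom hb ≫ q.map g₂) (by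
      show (eqToHom hb ≫ q.map g₂) ≫ q.map (F.map f₂) = q.map (F.map (β ≫ f₁))
      rw [F.map_comp, q.map_comp, hβ', Category.assoc, Category.assoc, ← q.map_comp, ← q.map_comp, eq])
    have hγ'' : q.map (F.map γ) = eqToHom hb ≫ q.map g₂ := hγ'
    have hg₂ : α ≫ F.map γ = g₂ := by
      haveI := IsFibGrpd.isStronglyCartesian (p := q) (F.map f₂)
      have e : q.map (α ≫ F.map γ) = q.map g₂ := by
        rw [q.map_comp, hα', hγ'']
        simp
      haveI : q.IsHomLift (q.map g₂) (α ≫ F.map γ) := e ▸ IsHomLift.map q (α ≫ F.map γ)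
      refine Functor.IsStronglyCartesian.ext q (q.map (F.map f₂)) (F.map f₂) (q.map g₂) ?_
      rw [Category.assoc, ← F.map_comp, hγ, F.map_comp, ← Category.assoc, hα, eq]
    have hc := hξ β γ h₁ h₂ hγ.symm
    rw [← hα, ← hg₂, op_comp, op_comp, Functor.map_comp_apply, Functor.map_comp_apply]
    exact congrArg (ℱ.obj.map α.op) hc⟩

lemma isContinuous_map :
    F.IsContinuous ((F ⋙ q).restrictedTopology J) (q.restrictedTopology J) :=
  Functor.isContinuous_of_coverPreserving (compatiblePreserving_map F q J) (coverPreserving_map F q J)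

theorem map_props (p : X ⥤ C) (h : F ⋙ q = p) :
    CoverPreserving (p.restrictedTopology J) (q.restrictedTopology J) F ∧
      F.IsCocontinuous (p.restrictedTopology J) (q.restrictedTopology J) ∧
      F.IsContinuous (p.restrictedTopology J) (q.restrictedTopology J) := by
  subst h
  exact ⟨coverPreserving_map F q J, isCocontinuous_map F q J, isContinuous_map F q J⟩

end Map

end StkTopLib
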