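import Groth.Agent.StkTopLib.Change

/-!
# Sieves of a category fibred in groupoids and of its base
-/

set_option autoImplicit false
set_option backward.isDefEq.respectTransparency false
set_option backward.isDefEq.respectTransparency.types false

universe v₁ u₁ v₂ u₂ v u

open CategoryTheory FibCat FibLib AlgStLib

namespace StkTopLib

variable {C : Type u} [Category.{v} C] {𝒴 : BasedCategory.{v₁, u₁} C}

/-- A sieve upstairs, seen in the pushforward sieve. -/
abbrev sieveDown {y : 𝒴.obj} (R : Sieve y) :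
    down 𝒴 (Stk.sieveCat R) ⥤ᵇ Stk.sieveCat (R.functorPushforward 𝒴.p) :=
  { toFunctor := ObjectProperty.lift _ (ObjectProperty.ι _ ⋙ Over.post 𝒴.p)
      fun a => Sieve.image_mem_functorPushforward 𝒴.p R a.property
    w := rfl }

/-- The slice upstairs, seen in the slice downstairs. -/
abbrev overDown (y : 𝒴.obj) : down 𝒴 (overCat y) ⥤ᵇ overCat (𝒴.p.obj y) :=
  { toFunctor := Over.post 𝒴.p
    w := rfl }

theorem sieveDown_isEquivalence [IsFibGrpd 𝒴.p] {y : 𝒴.obj} (R : Sieve y) :
    (sieveDown R).toFunctor.IsEquivalence := by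
  haveI := overPost_isEquivalence 𝒴.p y
  refine
    { faithful := ⟨fun {a b} f g h => ?_⟩
      full := ⟨fun {a b} g => ?_⟩
      essSurj := ⟨fun a => ?_⟩ }
  · apply ObjectProperty.hom_ext
    exact (Over.post 𝒴.p).map_injective (congrArg (fun k => k.hom) h)
  · obtain ⟨f, hf⟩ := (Over.post 𝒴.p).map_surjective (X := a.obj) (Y := b.obj) g.hom
    exact ⟨ObjectProperty.homMk f, ObjectProperty.hom_ext _ hf⟩
  · let b := (Over.post 𝒴.p).objPreimage a.obj
    let i : (Over.post 𝒴.p).obj b ≅ a.obj := (Over.post 𝒴.p).objObjPreimageIso a.obj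
    have hb : R b.hom := by
      refine (pushforward_map_iff 𝒴.p R b.hom).1 ?_
      have : i.hom.left ≫ a.obj.hom = 𝒴.p.map b.hom := Over.w i.hom
      rw [← this]
      exact (R.functorPushforward 𝒴.p).downward_closed a.property i.hom.left
    exact ⟨⟨b, hb⟩, ⟨ObjectProperty.isoMk _ i⟩⟩

/-- Restriction to a sieve upstairs is restriction to its image. -/
theorem restr_down_iff [IsFibGrpd 𝒴.p] {𝒳 : BasedCategory.{v₂, u₂} C} [IsFibGrpd 𝒳.p] {y : 𝒴.obj}
    (R : Sieve y) :
    (Stk.restr (downMap 𝒴 (Stk.sieveIncl R)) 𝒳).IsEquivalence ↔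
      Stk.IsStackFor (R.functorPushforward 𝒴.p) 𝒳 := by
  haveI : (sieveDown R).toFunctor.IsEquivalence := sieveDown_isEquivalence R
  haveI : (overDown y).toFunctor.IsEquivalence := overPost_isEquivalence 𝒴.p y
  exact (restr_isEquivalence_transfer (sieveDown R) (overDown y) (Iso.refl _)).symm

end StkTopLib
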