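import Groth.Agent.StkTopLib.Slice

/-!
# Stacks over a stack
-/

set_option autoImplicit false
set_option backward.isDefEq.respectTransparency false
set_option backward.isDefEq.respectTransparency.types false

universe v₁ u₁ v₂ u₂ v₃ u₃ v₄ u₄ v u

open CategoryTheory FibCat FibLib AlgStLib

namespace StkTopLib

lemma map_app_eq {B : Type u} [Category.{v} B] {𝒱 : BasedCategory.{v₁, u₁} B} {𝒲 : BasedCategory.{v₂, u₂} B}
    {G G' : 𝒱 ⥤ᵇ 𝒲} (α : G ⟶ G') (a : 𝒱.obj) :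
    𝒲.p.map (α.toNatTrans.app a) = eqToHom ((G.w_obj a).trans (G'.w_obj a).symm) := by
  haveI := α.isHomLift' a
  rw [IsHomLift.fac' 𝒲.p (𝟙 (𝒱.p.obj a)) (α.toNatTrans.app a)]
  simp

section Up

variable {C : Type u} [Category.{v} C] {𝒳 : BasedCategory.{v₁, u₁} C} (𝒴 : BasedCategory.{v₂, u₂} 𝒳.obj)

/-- The total category of `𝒴`, seen over `C`. -/
abbrev tot : BasedCategory.{v₂, u₂} C := BasedCategory.ofFunctor (𝒴.p ⋙ 𝒳.p)

/-- The projection to `𝒳`. -/
abbrev totProj : tot 𝒴 ⥤ᵇ 𝒳 := ⟨𝒴.p, rfl⟩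

variable {𝒜 : BasedCategory.{v₃, u₃} C} {ℬ : BasedCategory.{v₄, u₄} C} (ι : 𝒜 ⥤ᵇ ℬ) (H : ℬ ⥤ᵇ 𝒳)

/-- A functor over `C` seen over `𝒳`. -/
abbrev overFun : BasedCategory.{v₄, u₄} 𝒳.obj := BasedCategory.ofFunctor H.toFunctor

/-- A functor between two categories over `𝒳`. -/
abbrev overIncl : overFun (BasedFunctor.comp ι H) ⥤ᵇ overFun H :=
  { toFunctor := ι.toFunctor
    w := rfl }

variable {𝒴}

/-- A functor over `C` seen as a functor over `𝒳`. -/
abbrev liftUp (K : ℬ ⥤ᵇ tot 𝒴) : overFun (BasedFunctor.comp K (totProj 𝒴)) ⥤ᵇ 𝒴 :=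
  { toFunctor := K.toFunctor
    w := rfl }

lemma isHomLift_up {K K' : ℬ ⥤ᵇ tot 𝒴} (α : K.toFunctor ⟶ K'.toFunctor) (γ : BasedFunctor.comp K (totProj 𝒴) ⟶
    BasedFunctor.comp K' (totProj 𝒴)) (h : ∀ b, 𝒴.p.map (α.app b) = γ.toNatTrans.app b) (b : ℬ.obj) :
    (tot 𝒴).p.IsHomLift (𝟙 (ℬ.p.obj b)) (α.app b) := by
  refine isHomLift_id_of_eq _ _ (K.w_obj b) (K'.w_obj b) ?_
  show 𝒳.p.map (𝒴.p.map (α.app b)) = _
  rw [h b]
  exact map_app_eq γ b

/-- Gluing over `C` from gluing in `𝒳` and gluing over `𝒳`. -/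
theorem restr_isEquivalence_tot [IsFibGrpd 𝒳.p] [IsFibGrpd 𝒴.p] (hX : (Stk.restr ι 𝒳).IsEquivalence)
    (hY : ∀ H : ℬ ⥤ᵇ 𝒳, (Stk.restr (overIncl ι H) 𝒴).IsEquivalence) :
    (Stk.restr ι (tot 𝒴)).IsEquivalence := by
  let q : ∀ K : ℬ ⥤ᵇ tot 𝒴, ℬ ⥤ᵇ 𝒳 := fun K => BasedFunctor.comp K (totProj 𝒴)
  -- morphisms are morphisms over `𝒳` after strictifying
  have key : ∀ (G G₂ : ℬ ⥤ᵇ tot 𝒴) (γ : q G ≅ q G₂), ∃ (G' : overFun (q G₂) ⥤ᵇ 𝒴) (e : G.toFunctor ≅ G'.toFunctor),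
      ∀ b, 𝒴.p.map (e.inv.app b) = eqToHom (G'.w_obj b) ≫ γ.inv.toNatTrans.app b := fun G G₂ γ => by
    obtain ⟨G', e, he⟩ := exists_strictify (𝒵 := 𝒴) (𝒲 := overFun (q G₂)) G.toFunctor
      ((BasedNatTrans.forgetful _ _).mapIso γ)
    refine ⟨G', e, fun b => ?_⟩
    have h1 : 𝒴.p.map (e.hom.app b) = γ.hom.toNatTrans.app b ≫ eqToHom (G'.w_obj b).symm := by
      refine (@IsHomLift.fac' _ _ _ _ 𝒴.p _ _ _ _ (γ.hom.toNatTrans.app b) (e.hom.app b) (he b)).trans ?_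
      simp
    have hi : γ.hom.toNatTrans.app b ≫ γ.inv.toNatTrans.app b = 𝟙 _ :=
      congrArg (fun t => t.toNatTrans.app b) γ.hom_inv_id
    rw [← cancel_epi (𝒴.p.map (e.hom.app b)), ← 𝒴.p.map_comp, Iso.hom_inv_id_app, h1]
    simp [hi]
    rfl
  refine { faithful := ⟨?_⟩, full := ⟨?_⟩, essSurj := ⟨fun K => ?_⟩ }
  · intro G G₂ α β h
    have hr : ∀ a, α.toNatTrans.app (ι.obj a) = β.toNatTrans.app (ι.obj a) := fun a =>
      congrArg (fun t => t.toNatTrans.app a) h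
    have hq : BasedCategory.whiskerRight α (totProj 𝒴) = BasedCategory.whiskerRight β (totProj 𝒴) :=
      (Stk.restr ι 𝒳).map_injective (bnt_ext fun a => congrArg 𝒴.p.map (hr a))
    haveI := isIso_bnt (BasedCategory.whiskerRight α (totProj 𝒴))
    let γ := asIso (BasedCategory.whiskerRight α (totProj 𝒴))
    have hi : ∀ b, γ.inv.toNatTrans.app b ≫ γ.hom.toNatTrans.app b = 𝟙 _ := fun b =>
      congrArg (fun t => t.toNatTrans.app b) γ.inv_hom_id
    obtain ⟨G', e, he⟩ := key G G₂ γ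
    have hα : ∀ b, 𝒴.p.IsHomLift (𝟙 ((q G₂).obj b)) ((e.inv ≫ α.toNatTrans).app b) := fun b => by
      refine isHomLift_id_of_eq _ _ (G'.w_obj b) rfl ?_
      rw [NatTrans.comp_app, 𝒴.p.map_comp, he b]
      exact (Category.assoc _ _ _).trans ((congrArg _ (hi _)).trans (Category.comp_id _))
    have hβ : ∀ b, 𝒴.p.IsHomLift (𝟙 ((q G₂).obj b)) ((e.inv ≫ β.toNatTrans).app b) := fun b => by
      refine isHomLift_id_of_eq _ _ (G'.w_obj b) rfl ?_
      rw [NatTrans.comp_app, 𝒴.p.map_comp, he b]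
      have hb : 𝒴.p.map (β.toNatTrans.app b) = (BasedCategory.whiskerRight α (totProj 𝒴)).toNatTrans.app b :=
        (congrArg (fun t => t.toNatTrans.app b) hq).symm
      rw [hb]
      exact (Category.assoc _ _ _).trans ((congrArg _ (hi _)).trans (Category.comp_id _))
    haveI := hY (q G₂)
    let A : G' ⟶ liftUp G₂ := { toNatTrans := e.inv ≫ α.toNatTrans, isHomLift' := hα }
    let B : G' ⟶ liftUp G₂ := { toNatTrans := e.inv ≫ β.toNatTrans, isHomLift' := hβ }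
    have hAB : A = B := (Stk.restr (overIncl ι (q G₂)) 𝒴).map_injective
      (bnt_ext fun a => congrArg (e.inv.app (ι.obj a) ≫ ·) (hr a))
    exact bnt_ext fun b => (cancel_epi (e.inv.app b)).1 (congrArg (fun t => t.toNatTrans.app b) hAB)
  · intro G G₂ δ
    obtain ⟨γ, hγ⟩ := (Stk.restr ι 𝒳).map_surjective (X := q G) (Y := q G₂)
      (BasedCategory.whiskerRight δ (totProj 𝒴))
    haveI := isIso_bnt γ
    have hi : ∀ b, (asIso γ).inv.toNatTrans.app b ≫ γ.toNatTrans.app b = 𝟙 _ := fun b =>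
      congrArg (fun t => t.toNatTrans.app b) (asIso γ).inv_hom_id
    obtain ⟨G', e, he⟩ := key G G₂ (asIso γ)
    haveI := hY (q G₂)
    let D : (Stk.restr (overIncl ι (q G₂)) 𝒴).obj G' ⟶ (Stk.restr (overIncl ι (q G₂)) 𝒴).obj (liftUp G₂) :=
      { toNatTrans := Functor.whiskerLeft ι.toFunctor e.inv ≫ δ.toNatTrans
        isHomLift' := fun a => by
          refine isHomLift_id_of_eq _ _ (G'.w_obj _) rfl ?_
          show 𝒴.p.map (e.inv.app (ι.obj a) ≫ δ.toNatTrans.app a) = _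
          rw [𝒴.p.map_comp, he (ι.obj a)]
          have hd : 𝒴.p.map (δ.toNatTrans.app a) = γ.toNatTrans.app (ι.obj a) :=
            (congrArg (fun t => t.toNatTrans.app a) hγ).symm
          rw [hd]
          exact (Category.assoc _ _ _).trans ((congrArg _ (hi _)).trans (Category.comp_id _)) }
    obtain ⟨ε, hε⟩ := (Stk.restr (overIncl ι (q G₂)) 𝒴).map_surjective D
    refine ⟨{ toNatTrans := e.hom ≫ ε.toNatTrans, isHomLift' := ?_ }, bnt_ext fun a => ?_⟩
    · refine isHomLift_up _ γ fun b => ?_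
      rw [NatTrans.comp_app, 𝒴.p.map_comp, map_app_eq ε b, ← cancel_epi (𝒴.p.map (e.inv.app b)),
        ← 𝒴.p.map_comp_assoc, Iso.inv_hom_id_app]
      simp [he b]
      exact (eq_comm.1 ((congrArg (eqToHom (G'.w_obj b) ≫ ·) (hi b)).trans (Category.comp_id _)))
    · show e.hom.app (ι.obj a) ≫ ε.toNatTrans.app (ι.obj a) = δ.toNatTrans.app a
      rw [show ε.toNatTrans.app (ι.obj a) = e.inv.app (ι.obj a) ≫ δ.toNatTrans.app a from
        congrArg (fun t => t.toNatTrans.app a) hε]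
      exact Iso.hom_inv_id_app_assoc e _ _
  · obtain ⟨H, ⟨i⟩⟩ := Functor.EssSurj.mem_essImage (F := Stk.restr ι 𝒳) (BasedFunctor.comp K (totProj 𝒴))
    obtain ⟨K', e, he⟩ := exists_strictify (𝒵 := 𝒴) (𝒲 := overFun (BasedFunctor.comp ι H)) K.toFunctor
      ((BasedNatTrans.forgetful _ _).mapIso i).symm
    haveI := hY H
    obtain ⟨G', ⟨j⟩⟩ := Functor.EssSurj.mem_essImage (F := Stk.restr (overIncl ι H) 𝒴) K'
    let G : ℬ ⥤ᵇ tot 𝒴 :=
      { toFunctor := G'.toFunctor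
        w := by
          show G'.toFunctor ⋙ (𝒴.p ⋙ 𝒳.p) = ℬ.p
          rw [← Functor.assoc, G'.w]
          exact H.w }
    let ν : ι.toFunctor ⋙ G.toFunctor ≅ K.toFunctor := (BasedNatTrans.forgetful _ _).mapIso j ≪≫ e.symm
    refine ⟨G, ⟨BasedNatIso.mkNatIso ν fun a => ?_⟩⟩
    refine isHomLift_id_of_eq _ _ ((G.w_obj _).trans (ι.w_obj a)) (K.w_obj a) ?_
    change 𝒳.p.map (𝒴.p.map (j.hom.toNatTrans.app a ≫ e.inv.app a)) = _
    have h1 : 𝒴.p.map (e.hom.app a) = i.inv.toNatTrans.app a ≫ eqToHom (K'.w_obj a).symm := by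
      refine (@IsHomLift.fac' _ _ _ _ 𝒴.p _ _ _ _ (i.inv.toNatTrans.app a) (e.hom.app a) (he a)).trans ?_
      simp
    have h2 : 𝒴.p.map (e.inv.app a) = eqToHom (K'.w_obj a) ≫ i.hom.toNatTrans.app a := by
      have hi : i.inv.toNatTrans.app a ≫ i.hom.toNatTrans.app a = 𝟙 _ :=
        congrArg (fun t => t.toNatTrans.app a) i.inv_hom_id
      rw [← cancel_epi (𝒴.p.map (e.hom.app a)), ← 𝒴.p.map_comp, Iso.hom_inv_id_app, h1]
      simp [hi]
      rfl
    rw [𝒴.p.map_comp, 𝒳.p.map_comp, h2, map_app_eq j.hom a, 𝒳.p.map_comp]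
    simp [map_app_eq i.hom a, eqToHom_map]

end Up

section Slice

variable {C : Type u} [Category.{v} C] {𝒳 : BasedCategory.{v₁, u₁} C} {U : C} (H : overCat U ⥤ᵇ 𝒳)

/-- The slice of `U` seen in the slice of the object it maps to. -/
abbrev sliceUp : overFun H ⥤ᵇ overCat (H.obj (Over.mk (𝟙 U))) :=
  { toFunctor :=
      { obj := fun T => Over.mk (H.map (toId T))
        map := fun {T T'} f => Over.homMk (H.map f) (by
          show H.map f ≫ H.map (toId T') = H.map (toId T)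
          rw [← H.toFunctor.map_comp, comp_toId])
        map_id := fun T => Over.OverMorphism.ext (H.toFunctor.map_id T)
        map_comp := fun f g => Over.OverMorphism.ext (H.toFunctor.map_comp f g) }
    w := rfl }

lemma map_map_toId (T : Over U) :
    𝒳.p.map (H.map (toId T)) = eqToHom (H.w_obj T) ≫ T.hom ≫ eqToHom (H.w_obj (Over.mk (𝟙 U))).symm :=
  Functor.congr_hom H.w (toId T)

/-- Down again it is the slice of `U`. -/
def sliceUpIso : (sliceUp H).toFunctor ⋙ Over.post 𝒳.p ≅ Over.map (eqToHom (H.w_obj (Over.mk (𝟙 U))).symm) :=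
  NatIso.ofComponents (fun T => Over.isoMk (eqToIso (H.w_obj T)) (by
    show eqToHom (H.w_obj T) ≫ T.hom ≫ eqToHom (H.w_obj (Over.mk (𝟙 U))).symm = 𝒳.p.map (H.map (toId T))
    exact (map_map_toId H T).symm))
    (fun {T T'} f => Over.OverMorphism.ext (by
      show 𝒳.p.map (H.map f) ≫ eqToHom (H.w_obj T') = eqToHom (H.w_obj T) ≫ f.left
      rw [show 𝒳.p.map (H.map f) = _ from Functor.congr_hom H.w f]
      simp
      rfl))

theorem sliceUp_isEquivalence [IsFibGrpd 𝒳.p] : (sliceUp H).toFunctor.IsEquivalence := by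
  haveI := overPost_isEquivalence 𝒳.p (H.obj (Over.mk (𝟙 U)))
  haveI : (Over.map (eqToHom (H.w_obj (Over.mk (𝟙 U))).symm)).IsEquivalence :=
    (Over.mapIso (eqToIso (H.w_obj (Over.mk (𝟙 U))).symm)).isEquivalence_functor
  haveI : ((sliceUp H).toFunctor ⋙ Over.post 𝒳.p).IsEquivalence := Functor.isEquivalence_of_iso (sliceUpIso H).symm
  exact Functor.isEquivalence_of_comp_right _ (Over.post 𝒳.p)

/-- The sieve upstairs corresponding to a sieve on `U`. -/
abbrev sieveUp (R : Sieve U) : Sieve (H.obj (Over.mk (𝟙 U))) :=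
  (R.pullback (eqToHom (H.w_obj (Over.mk (𝟙 U))))).functorPullback 𝒳.p

lemma sieveUp_iff (R : Sieve U) (T : Over U) : sieveUp H R (H.map (toId T)) ↔ R T.hom := by
  show R (𝒳.p.map (H.map (toId T)) ≫ eqToHom _) ↔ _
  rw [map_map_toId H T, Category.assoc, Category.assoc, eqToHom_trans, eqToHom_refl]
  erw [Category.comp_id]
  refine ⟨fun h => ?_, fun h => R.downward_closed h _⟩
  have := R.downward_closed h (eqToHom (H.w_obj T).symm)
  rw [eqToHom_trans_assoc, eqToHom_refl] at this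
  erw [Category.id_comp] at this
  exact this

/-- A sieve on `U` seen in a sieve upstairs. -/
abbrev sieveSliceUp (R : Sieve U) :
    overFun (BasedFunctor.comp (Stk.sieveIncl R) H) ⥤ᵇ Stk.sieveCat (sieveUp H R) :=
  { toFunctor := ObjectProperty.lift _ (ObjectProperty.ι _ ⋙ (sliceUp H).toFunctor)
      fun a => (sieveUp_iff H R a.obj).2 a.property
    w := rfl }

theorem sieveSliceUp_isEquivalence [IsFibGrpd 𝒳.p] (R : Sieve U) :
    (sieveSliceUp H R).toFunctor.IsEquivalence := by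
  haveI := sliceUp_isEquivalence H
  refine
    { faithful := ⟨fun {a b} f g h => ?_⟩
      full := ⟨fun {a b} g => ?_⟩
      essSurj := ⟨fun a => ?_⟩ }
  · apply ObjectProperty.hom_ext
    exact (sliceUp H).toFunctor.map_injective (congrArg (fun k => k.hom) h)
  · obtain ⟨f, hf⟩ := (sliceUp H).toFunctor.map_surjective (X := a.obj) (Y := b.obj) g.hom
    exact ⟨ObjectProperty.homMk f, ObjectProperty.hom_ext _ hf⟩
  · let T := (sliceUp H).toFunctor.objPreimage a.obj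
    let i : (sliceUp H).toFunctor.obj T ≅ a.obj := (sliceUp H).toFunctor.objObjPreimageIso a.obj
    have hT : R T.hom := by
      refine (sieveUp_iff H R T).1 ?_
      have : i.hom.left ≫ a.obj.hom = H.map (toId T) := Over.w i.hom
      rw [← this]
      exact (sieveUp H R).downward_closed a.property i.hom.left
    exact ⟨⟨T, hT⟩, ⟨ObjectProperty.isoMk _ i⟩⟩

theorem restr_overIncl_isEquivalence [IsFibGrpd 𝒳.p] (J : GrothendieckTopology C)
    {𝒴 : BasedCategory.{v₂, u₂} 𝒳.obj} (h𝒴 : Stk.IsStack (𝒳.p.restrictedTopology J) 𝒴) {R : Sieve U}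
    (hR : R ∈ J U) : (Stk.restr (overIncl (Stk.sieveIncl R) H) 𝒴).IsEquivalence := by
  haveI := h𝒴.1
  haveI : (sieveSliceUp H R).toFunctor.IsEquivalence := sieveSliceUp_isEquivalence H R
  haveI : (sliceUp H).toFunctor.IsEquivalence := sliceUp_isEquivalence H
  refine (restr_isEquivalence_transfer (sieveSliceUp H R) (sliceUp H) (Iso.refl _)).1 (h𝒴.2 _ ?_)
  rw [mem_restrictedTopology_iff, pushforward_pullback_eq]
  exact J.pullback_stable _ hR

end Slice

end StkTopLib
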