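import Groth.Agent.StkTopLib.Cofinal
import Groth.Agent.S12807
import Mathlib.CategoryTheory.Limits.Shapes.Pullback.IsPullback.Basic
import Mathlib.CategoryTheory.Sites.CoverPreserving

/-!
# The pullback of a stack along a functor of sites
-/

set_option autoImplicit false
set_option backward.isDefEq.respectTransparency false
set_option backward.isDefEq.respectTransparency.types false

universe v₁ u₁ v₂ u₂ v₃ u₃ v₄ u₄ v u

open CategoryTheory CategoryTheory.Limits FibCat FibLib AlgStLib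
open CategoryTheory.Functor (Fiber IsStronglyCartesian)

namespace StkTopLib

variable {C : Type u} [Category.{v} C] {D : Type u₂} [Category.{v₂} D] (u : C ⥤ D)
  (𝒮 : BasedCategory.{v₁, u₁} D) [IsFibGrpd 𝒮.p]

/-- The pullback along `u`. -/
abbrev pull : BasedCategory C := BasedCategory.ofFunctor (CategoricalPullback.π₁ u 𝒮.p)

theorem isFibGrpd_pull : IsFibGrpd (pull u 𝒮).p := by
  refine (isFibGrpd_iff _).2 ⟨Groth.Agent.S12807.result u 𝒮, fun U => ⟨fun {a b} ψ => ?_⟩⟩
  obtain ⟨a, ha⟩ := a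
  obtain ⟨b, hb⟩ := b
  obtain ⟨ψ, hψ⟩ := ψ
  refine (fiber_isIso_iff _ _).2 ?_
  haveI h1 : IsIso ψ.fst := by
    have h : (pull u 𝒮).p.map ψ = eqToHom ha ≫ 𝟙 U ≫ eqToHom hb.symm :=
      @IsHomLift.fac' _ _ _ _ (pull u 𝒮).p _ _ _ _ (𝟙 U) ψ hψ
    rw [show ψ.fst = eqToHom ha ≫ 𝟙 U ≫ eqToHom hb.symm from h]
    infer_instance
  have hs : 𝒮.p.map ψ.snd = a.iso.inv ≫ u.map ψ.fst ≫ b.iso.hom := by
    rw [Iso.eq_inv_comp]
    exact ψ.w.symm
  haveI : IsIso (𝒮.p.map ψ.snd) := by rw [hs]; infer_instance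
  haveI : 𝒮.p.IsHomLift (𝒮.p.map ψ.snd) ψ.snd := IsHomLift.map _ _
  haveI : IsIso ψ.snd := isIso_of_isHomLift (p := 𝒮.p) (𝒮.p.map ψ.snd) ψ.snd
  exact (CategoricalPullback.mkIso (asIso ψ.fst) (asIso ψ.snd) ψ.w).isIso_hom

/-- A category over `C`, seen over `D`. -/
abbrev cu (𝒲 : BasedCategory.{v₃, u₃} C) : BasedCategory.{v₃, u₃} D := BasedCategory.ofFunctor (𝒲.p ⋙ u)

/-- A functor over `C`, seen over `D`. -/
abbrev cuMap {𝒜 : BasedCategory.{v₃, u₃} C} {ℬ : BasedCategory.{v₄, u₄} C} (ι : 𝒜 ⥤ᵇ ℬ) : cu u 𝒜 ⥤ᵇ cu u ℬ :=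
  { toFunctor := ι.toFunctor
    w := by
      show ι.toFunctor ⋙ (ℬ.p ⋙ u) = 𝒜.p ⋙ u
      rw [← Functor.assoc, ι.w] }

variable {𝒲 : BasedCategory.{v₃, u₃} C}

/-- Functors to `𝒮` over `D` as functors to the pullback over `C`. -/
def toPull : (cu u 𝒲 ⥤ᵇ 𝒮) ⥤ (𝒲 ⥤ᵇ pull u 𝒮) where
  obj H :=
    { toFunctor :=
        { obj := fun w => ⟨𝒲.p.obj w, H.obj w, eqToIso (H.w_obj w).symm⟩
          map := fun {w w'} f => ⟨𝒲.p.map f, H.map f, by
            rw [show 𝒮.p.map (H.map f) = eqToHom (H.w_obj w) ≫ u.map (𝒲.p.map f) ≫ eqToHom (H.w_obj w').symm from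
              Functor.congr_hom H.w f]
            simp
            skip⟩
          map_id := fun w => CategoricalPullback.hom_ext (𝒲.p.map_id w) (H.toFunctor.map_id w)
          map_comp := fun f g => CategoricalPullback.hom_ext (𝒲.p.map_comp f g) (H.toFunctor.map_comp f g) }
      w := rfl }
  map {H H'} α :=
    { app := fun w => ⟨𝟙 _, α.toNatTrans.app w, by
        show u.map (𝟙 (𝒲.p.obj w)) ≫ eqToHom (H'.w_obj w).symm =
          eqToHom (H.w_obj w).symm ≫ 𝒮.p.map (α.toNatTrans.app w)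
        haveI := α.isHomLift' w
        rw [IsHomLift.fac' 𝒮.p (𝟙 ((cu u 𝒲).p.obj w)) (α.toNatTrans.app w), Category.id_comp, eqToHom_trans_assoc,
          eqToHom_refl, CategoryTheory.Functor.map_id]
        exact (Category.id_comp _).trans (Category.id_comp _).symm⟩
      naturality := fun w w' f =>
        CategoricalPullback.hom_ext ((Category.comp_id _).trans (Category.id_comp _).symm) (α.toNatTrans.naturality f)
      isHomLift' := fun w => IsHomLift.of_fac' _ _ _ rfl rfl ((Category.id_comp _).symm.trans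
        (congrArg (𝟙 (𝒲.p.obj w) ≫ ·) (Category.id_comp _).symm)) }
  map_id H := bnt_ext fun w => rfl
  map_comp α β := bnt_ext fun w => CategoricalPullback.hom_ext (Category.comp_id _).symm rfl

theorem toPull_isEquivalence : (toPull (𝒲 := 𝒲) u 𝒮).IsEquivalence := by
  refine { faithful := ⟨fun {H H' α β} h => bnt_ext fun w => ?_⟩, full := ⟨fun {H H'} γ => ?_⟩,
           essSurj := ⟨fun G => ?_⟩ }
  · exact congrArg (fun t => (t.toNatTrans.app w).snd) h
  · have hfst : ∀ w, (γ.toNatTrans.app w).fst = 𝟙 (𝒲.p.obj w) := fun w => by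
      have h : (pull u 𝒮).p.map (γ.toNatTrans.app w) = 𝟙 _ ≫ 𝟙 (𝒲.p.obj w) ≫ 𝟙 _ :=
        @IsHomLift.fac' _ _ _ _ (pull u 𝒮).p _ _ _ _ (𝟙 (𝒲.p.obj w)) _ (γ.isHomLift' w)
      exact h.trans ((Category.id_comp _).trans (Category.comp_id _))
    refine ⟨{ app := fun w => (γ.toNatTrans.app w).snd
              naturality := fun w w' f => congrArg CategoricalPullback.Hom.snd (γ.toNatTrans.naturality f)
              isHomLift' := fun w => ?_ },
      bnt_ext fun w => CategoricalPullback.hom_ext (hfst w).symm rfl⟩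
    refine IsHomLift.of_fac' _ _ _ (H.w_obj w) (H'.w_obj w) ?_
    have hw : u.map (γ.toNatTrans.app w).fst ≫ eqToHom (H'.w_obj w).symm =
        eqToHom (H.w_obj w).symm ≫ 𝒮.p.map (γ.toNatTrans.app w).snd := (γ.toNatTrans.app w).w
    rw [hfst w] at hw
    erw [CategoryTheory.Functor.map_id, Category.id_comp] at hw
    rw [← cancel_epi (eqToHom (H.w_obj w).symm)]
    refine hw.symm.trans ?_
    simp
  · let P : 𝒲.obj ⥤ 𝒮.obj :=
      { obj := fun w => (G.obj w).snd
        map := fun f => (G.map f).snd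
        map_id := fun w => congrArg CategoricalPullback.Hom.snd (G.toFunctor.map_id w)
        map_comp := fun f g => congrArg CategoricalPullback.Hom.snd (G.toFunctor.map_comp f g) }
    let θ : P ⋙ 𝒮.p ≅ (cu u 𝒲).p :=
      NatIso.ofComponents (fun w => (G.obj w).iso.symm ≪≫ eqToIso (congrArg u.obj (G.w_obj w))) (fun {w w'} f => by
        show 𝒮.p.map (G.map f).snd ≫ (G.obj w').iso.inv ≫ eqToHom (congrArg u.obj (G.w_obj w')) =
          ((G.obj w).iso.inv ≫ eqToHom (congrArg u.obj (G.w_obj w))) ≫ u.map (𝒲.p.map f)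
        have hf : (G.map f).fst = eqToHom (G.w_obj w) ≫ 𝒲.p.map f ≫ eqToHom (G.w_obj w').symm :=
          Functor.congr_hom G.w f
        have := (G.map f).w
        rw [hf, Functor.map_comp, Functor.map_comp, eqToHom_map, eqToHom_map] at this
        rw [← cancel_epi (G.obj w).iso.hom, ← reassoc_of% this]
        simp)
    obtain ⟨H, e, he⟩ := exists_strictify (𝒵 := 𝒮) (𝒲 := cu u 𝒲) P θ
    let ν : ((toPull u 𝒮).obj H).toFunctor ≅ G.toFunctor :=
      NatIso.ofComponents (fun w => CategoricalPullback.mkIso (eqToIso (G.w_obj w).symm) (e.app w).symm (by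
        show u.map (eqToHom (G.w_obj w).symm) ≫ (G.obj w).iso.hom =
          eqToHom (H.w_obj w).symm ≫ 𝒮.p.map (e.inv.app w)
        have h1 : 𝒮.p.map (e.hom.app w) = (θ.hom.app w) ≫ eqToHom (H.w_obj w).symm := by
          refine (@IsHomLift.fac' _ _ _ _ 𝒮.p _ _ _ _ (θ.hom.app w) (e.hom.app w) (he w)).trans ?_
          simp
        rw [← cancel_mono (𝒮.p.map (e.hom.app w)), Category.assoc, Category.assoc, ← 𝒮.p.map_comp,
          Iso.inv_hom_id_app, h1, eqToHom_map]
        simp [θ]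
        skip))
        (fun {w w'} f => CategoricalPullback.hom_ext (by
            show 𝒲.p.map f ≫ eqToHom (G.w_obj w').symm = eqToHom (G.w_obj w).symm ≫ (G.map f).fst
            rw [show (G.map f).fst = _ from Functor.congr_hom G.w f]
            simp
            skip)
          (e.inv.naturality f))
    exact ⟨H, ⟨BasedNatIso.mkNatIso ν fun w => IsHomLift.of_fac' _ _ _ rfl (G.w_obj w) (by
      show eqToHom (G.w_obj w).symm = 𝟙 _ ≫ 𝟙 _ ≫ eqToHom _
      rw [Category.id_comp]
      exact (Category.id_comp _).symm)⟩⟩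

theorem restr_pull_iff {𝒜 : BasedCategory.{v₃, u₃} C} {ℬ : BasedCategory.{v₄, u₄} C} (ι : 𝒜 ⥤ᵇ ℬ) :
    (Stk.restr ι (pull u 𝒮)).IsEquivalence ↔ (Stk.restr (cuMap u ι) 𝒮).IsEquivalence := by
  haveI := toPull_isEquivalence (𝒲 := 𝒜) u 𝒮
  haveI := toPull_isEquivalence (𝒲 := ℬ) u 𝒮
  let i : Stk.restr (cuMap u ι) 𝒮 ⋙ toPull u 𝒮 ≅ toPull u 𝒮 ⋙ Stk.restr ι (pull u 𝒮) :=
    NatIso.ofComponents
      (fun H => BasedNatIso.mkNatIso
        (NatIso.ofComponents (fun a => CategoricalPullback.mkIso (eqToIso (ι.w_obj a).symm) (Iso.refl _) (by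
            show u.map (eqToHom (ι.w_obj a).symm) ≫ eqToHom (H.w_obj (ι.obj a)).symm =
              eqToHom ((BasedFunctor.comp (cuMap u ι) H).w_obj a).symm ≫ 𝒮.p.map (𝟙 (H.obj (ι.obj a)))
            erw [CategoryTheory.Functor.map_id, eqToHom_map, eqToHom_trans]
            exact (Category.comp_id _).symm))
          (fun {a a'} f => CategoricalPullback.hom_ext (by
              show 𝒜.p.map f ≫ eqToHom (ι.w_obj a').symm = eqToHom (ι.w_obj a).symm ≫ ℬ.p.map (ι.map f)
              rw [show ℬ.p.map (ι.map f) = _ from Functor.congr_hom ι.w f]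
              simp
              )
            ((Category.comp_id _).trans (Category.id_comp _).symm)))
        (fun a => IsHomLift.of_fac' _ _ _ rfl (ι.w_obj a) (by
          show eqToHom (ι.w_obj a).symm = 𝟙 _ ≫ 𝟙 _ ≫ eqToHom _
          rw [Category.id_comp]
          exact (Category.id_comp _).symm)))
      (fun {H H'} α => bnt_ext fun a => CategoricalPullback.hom_ext
        ((Category.id_comp _).trans (Category.comp_id _).symm)
        ((Category.comp_id _).trans (Category.id_comp _).symm))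
  constructor
  · intro h
    haveI : (Stk.restr (cuMap u ι) 𝒮 ⋙ toPull u 𝒮).IsEquivalence := Functor.isEquivalence_of_iso i.symm
    exact Functor.isEquivalence_of_comp_right _ (toPull u 𝒮)
  · intro h
    haveI : (toPull u 𝒮 ⋙ Stk.restr ι (pull u 𝒮)).IsEquivalence := Functor.isEquivalence_of_iso i
    exact Functor.isEquivalence_of_comp_left (toPull u 𝒮) _

section Slice

variable {u} [HasPullbacks C] [PreservesLimitsOfShape WalkingCospan u] {U : C}

lemma exists_pair {T : Over (u.obj U)} {a b : Over U} (g : T ⟶ (Over.post u).obj a) (h : T ⟶ (Over.post u).obj b) :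
    ∃ (c : Over U) (π : c ⟶ a) (π' : c ⟶ b) (l : T ⟶ (Over.post u).obj c),
      l ≫ (Over.post u).map π = g ∧ l ≫ (Over.post u).map π' = h := by
  have hP := Functor.map_isPullback u (IsPullback.of_hasPullback a.hom b.hom)
  have hw : g.left ≫ u.map a.hom = h.left ≫ u.map b.hom := (Over.w g).trans (Over.w h).symm
  refine ⟨Over.mk (pullback.fst a.hom b.hom ≫ a.hom), Over.homMk (pullback.fst a.hom b.hom) rfl,
    Over.homMk (pullback.snd a.hom b.hom) pullback.condition.symm,
    Over.homMk (hP.lift g.left h.left hw) ?_, Over.OverMorphism.ext (hP.lift_fst _ _ _),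
    Over.OverMorphism.ext (hP.lift_snd _ _ _)⟩
  show hP.lift g.left h.left hw ≫ u.map (pullback.fst a.hom b.hom ≫ a.hom) = T.hom
  rw [u.map_comp, hP.lift_fst_assoc]
  exact Over.w g

lemma exists_equalize {T : Over (u.obj U)} {a b : Over U} (k k' : a ⟶ b) (g : T ⟶ (Over.post u).obj a)
    (h : g ≫ (Over.post u).map k = g ≫ (Over.post u).map k') :
    ∃ (c : Over U) (e : c ⟶ a) (l : T ⟶ (Over.post u).obj c),
      l ≫ (Over.post u).map e = g ∧ e ≫ k = e ≫ k' := by
  have hP := IsPullback.of_hasPullback a.hom b.hom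
  let σ := hP.lift (𝟙 a.left) k.left ((Category.id_comp _).trans (Over.w k).symm)
  let σ' := hP.lift (𝟙 a.left) k'.left ((Category.id_comp _).trans (Over.w k').symm)
  have hσ₁ : σ ≫ pullback.fst a.hom b.hom = 𝟙 _ := hP.lift_fst _ _ _
  have hσ₁' : σ' ≫ pullback.fst a.hom b.hom = 𝟙 _ := hP.lift_fst _ _ _
  have hσ₂ : σ ≫ pullback.snd a.hom b.hom = k.left := hP.lift_snd _ _ _
  have hσ₂' : σ' ≫ pullback.snd a.hom b.hom = k'.left := hP.lift_snd _ _ _
  have hE : pullback.fst σ σ' = pullback.snd σ σ' := by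
    simpa [hσ₁, hσ₁'] using congrArg (· ≫ pullback.fst a.hom b.hom) (pullback.condition (f := σ) (g := σ'))
  have hlift : g.left ≫ u.map σ = g.left ≫ u.map σ' := by
    refine (Functor.map_isPullback u hP).hom_ext ?_ ?_
    · rw [Category.assoc, Category.assoc, ← u.map_comp, ← u.map_comp, hσ₁, hσ₁']
    · rw [Category.assoc, Category.assoc, ← u.map_comp, ← u.map_comp, hσ₂, hσ₂']
      exact congrArg CommaMorphism.left h
  have hP' := Functor.map_isPullback u (IsPullback.of_hasPullback σ σ')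
  refine ⟨Over.mk (pullback.fst σ σ' ≫ a.hom), Over.homMk (pullback.fst σ σ') rfl,
    Over.homMk (hP'.lift g.left g.left hlift) ?_, Over.OverMorphism.ext (hP'.lift_fst _ _ _), ?_⟩
  · show hP'.lift g.left g.left hlift ≫ u.map (pullback.fst σ σ' ≫ a.hom) = T.hom
    rw [u.map_comp, hP'.lift_fst_assoc]
    exact Over.w g
  · apply Over.OverMorphism.ext
    show pullback.fst σ σ' ≫ k.left = pullback.fst σ σ' ≫ k'.left
    rw [← hσ₂, ← hσ₂', ← Category.assoc, pullback.condition, Category.assoc, hE]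

theorem cofilteredUnder_post :
    CofilteredUnder (ℬ := overCat (u.obj U)) (Over.post u : Over U ⥤ Over (u.obj U)) where
  nonempty T := ⟨Over.mk (𝟙 U), ⟨Over.homMk T.hom (by
    show T.hom ≫ u.map (𝟙 U) = T.hom
    rw [u.map_id]
    exact Category.comp_id _)⟩⟩
  pair g h := exists_pair g h
  equalize k k' g h := exists_equalize k k' g h

/-- A sieve, seen in its image. -/
abbrev sievePost (R : Sieve U) : R.arrows.category ⥤ (Stk.sieveCat (R.functorPushforward u)).obj :=
  ObjectProperty.lift _ (ObjectProperty.ι _ ⋙ Over.post u)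
    fun a => Sieve.image_mem_functorPushforward u R a.property

theorem cofilteredUnder_sievePost (R : Sieve U) : CofilteredUnder (sievePost (u := u) R) where
  nonempty T := by
    obtain ⟨Z, k, l, hk, e⟩ := T.property
    exact ⟨⟨Over.mk k, hk⟩, ⟨ObjectProperty.homMk (Over.homMk l e.symm)⟩⟩
  pair {T a b} g h := by
    obtain ⟨c, π, π', l, h₁, h₂⟩ := exists_pair g.hom h.hom
    have hc : R c.hom := by rw [← Over.w π]; exact R.downward_closed a.property π.left
    exact ⟨⟨c, hc⟩, ObjectProperty.homMk π, ObjectProperty.homMk π', ObjectProperty.homMk l,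
      ObjectProperty.hom_ext _ h₁, ObjectProperty.hom_ext _ h₂⟩
  equalize {T a b} k k' g h := by
    obtain ⟨c, e, l, h₁, h₂⟩ := exists_equalize k.hom k'.hom g.hom (congrArg (fun f => f.hom) h)
    have hc : R c.hom := by rw [← Over.w e]; exact R.downward_closed a.property e.left
    exact ⟨⟨c, hc⟩, ObjectProperty.homMk e, ObjectProperty.homMk l,
      ObjectProperty.hom_ext _ h₁, ObjectProperty.hom_ext _ h₂⟩

/-- The slice seen over the slice of the image. -/
abbrev cuPost (U : C) : cu u (overCat U) ⥤ᵇ overCat (u.obj U) := ⟨Over.post u, rfl⟩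

/-- The sieve seen over its image. -/
abbrev cuSievePost (R : Sieve U) : cu u (Stk.sieveCat R) ⥤ᵇ Stk.sieveCat (R.functorPushforward u) :=
  ⟨sievePost R, rfl⟩

variable {𝒮}

theorem isStackFor_pull {R : Sieve U} (h : Stk.IsStackFor (R.functorPushforward u) 𝒮) :
    Stk.IsStackFor R (pull u 𝒮) := by
  refine (restr_pull_iff u 𝒮 (Stk.sieveIncl R)).2 ?_
  haveI : (Stk.resSieve (R.functorPushforward u) 𝒮).IsEquivalence := h
  haveI : (Stk.restr (cuPost (u := u) U) 𝒮).IsEquivalence :=
    restr_srcFun_isEquivalence (𝒮 := 𝒮) (cofilteredUnder_post (u := u) (U := U))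
  haveI : (Stk.restr (cuSievePost (u := u) R) 𝒮).IsEquivalence :=
    restr_srcFun_isEquivalence (𝒮 := 𝒮) (cofilteredUnder_sievePost (u := u) R)
  let i : Stk.resSieve (R.functorPushforward u) 𝒮 ⋙ Stk.restr (cuSievePost R) 𝒮 ≅
      Stk.restr (cuPost U) 𝒮 ⋙ Stk.restr (cuMap u (Stk.sieveIncl R)) 𝒮 :=
    NatIso.ofComponents (fun G => Iso.refl _) (fun {G G'} α => bnt_ext fun a =>
      (Category.comp_id _).trans (Category.id_comp _).symm)
  haveI : (Stk.restr (cuPost U) 𝒮 ⋙ Stk.restr (cuMap u (Stk.sieveIncl R)) 𝒮).IsEquivalence :=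
    Functor.isEquivalence_of_iso i
  exact Functor.isEquivalence_of_comp_left (Stk.restr (cuPost U) 𝒮) _

end Slice

end StkTopLib
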