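import Groth.Agent.StkTopLib.Up

/-!
# Stacks over a stack, tested on slices
-/

set_option autoImplicit false
set_option backward.isDefEq.respectTransparency false
set_option backward.isDefEq.respectTransparency.types false

universe v₁ u₁ v₂ u₂ v u

open CategoryTheory FibCat FibLib AlgStLib

namespace StkTopLib

variable {C : Type u} [Category.{v} C] {J : GrothendieckTopology C}

lemma over_eq_restrictedTopology (U : C) :
    (Over.forget U).restrictedTopology J = J.over U := by
  apply GrothendieckTopology.ext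
  funext a
  ext S
  rw [mem_restrictedTopology_iff, GrothendieckTopology.mem_over_iff]
  rfl

section FpOver

variable {𝒳 : BasedCategory.{v₁, u₁} C} {𝒴 : BasedCategory.{v₂, u₂} C} (j : 𝒳 ⥤ᵇ 𝒴)
  {U : C} (y : overCat U ⥤ᵇ 𝒴)

/-- The fibre product with a slice, over the slice. -/
abbrev fpOver : BasedCategory (overCat U).obj := BasedCategory.ofFunctor (fpFst y j).toFunctor

variable {𝒲 : BasedCategory.{v, max u v} C} (x : 𝒲 ⥤ᵇ overCat U)

/-- A lift to the fibre product, over the slice. -/
abbrev fpLiftOver (a : 𝒲 ⥤ᵇ 𝒳) (e : BasedFunctor.comp x y ≅ BasedFunctor.comp a j) :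
    BasedCategory.ofFunctor x.toFunctor ⥤ᵇ fpOver j y :=
  { toFunctor := (fpLift x a e).toFunctor
    w := rfl }

end FpOver

variable {𝒳 : BasedCategory.{v₁, u₁} C} {𝒴 : BasedCategory.{v₂, u₂} C} {j : 𝒳 ⥤ᵇ 𝒴}

/-- A category over a stack whose fibre products with slices are stacks over the slices is a stack. -/
theorem isStack_of_fpOver [IsFibGrpd 𝒳.p] (h𝒴 : Stk.IsStack J 𝒴)
    (h : ∀ (U : C) (y : overCat U ⥤ᵇ 𝒴), Stk.IsStack (J.over U) (fpOver j y)) : Stk.IsStack J 𝒳 := by
  haveI := h𝒴.1
  refine ⟨inferInstance, fun U R hR => ?_⟩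
  haveI hY : (Stk.resSieve R 𝒴).IsEquivalence := h𝒴.2 R hR
  haveI : IsFibGrpd (overCat U).p := inferInstanceAs (IsFibGrpd (Over.forget U))
  let ι := Stk.sieveIncl R
  let I : overCat U ⥤ᵇ overCat U := BasedFunctor.id _
  have hZ : ∀ y : overCat U ⥤ᵇ 𝒴, (Stk.restr (overIncl ι I) (fpOver j y)).IsEquivalence := fun y =>
    restr_overIncl_isEquivalence I J (by
      show Stk.IsStack ((Over.forget U).restrictedTopology J) (fpOver j y)
      rw [over_eq_restrictedTopology]
      exact h U y) hR
  suffices hfull : (Stk.resSieve R 𝒳).Full ∧ (Stk.resSieve R 𝒳).Faithful ∧ (Stk.resSieve R 𝒳).EssSurj by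
    exact { full := hfull.1, faithful := hfull.2.1, essSurj := hfull.2.2 }
  refine ⟨⟨?_⟩, ⟨?_⟩, ⟨?_⟩⟩
  · intro a b α
    obtain ⟨β, hβ⟩ := (Stk.resSieve R 𝒴).map_surjective (X := BasedFunctor.comp a j)
      (Y := BasedFunctor.comp b j) (BasedCategory.whiskerRight α j)
    haveI := isIso_bnt β
    let y := BasedFunctor.comp b j
    haveI := hZ y
    let A : overFun I ⥤ᵇ fpOver j y := fpLiftOver j y (BasedFunctor.id _) a (asIso β).symm
    let B : overFun I ⥤ᵇ fpOver j y := fpLiftOver j y (BasedFunctor.id _) b (Iso.refl _)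
    have hβ' : ∀ x, j.map (α.toNatTrans.app x) = β.toNatTrans.app (ι.obj x) := fun x =>
      (congrArg (fun t => t.toNatTrans.app x) hβ).symm
    let φ : (Stk.restr (overIncl ι I) (fpOver j y)).obj A ⟶ (Stk.restr (overIncl ι I) (fpOver j y)).obj B :=
      { app := fun x => fpHom (𝟙 _) (α.toNatTrans.app x) (by
          change y.map (𝟙 _) ≫ 𝟙 _ = (asIso β).inv.toNatTrans.app (ι.obj x) ≫ j.map (α.toNatTrans.app x)
          rw [hβ', y.toFunctor.map_id]
          exact (Category.comp_id _).trans
            (congrArg (fun t => t.toNatTrans.app (ι.obj x)) (asIso β).inv_hom_id).symm)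
        naturality := fun x x' m =>
          fp_hom_ext ((Category.comp_id _).trans (Category.id_comp _).symm) (α.toNatTrans.naturality m)
        isHomLift' := fun x => isHomLift_id_of_eq _ _ rfl rfl (by rw [eqToHom_refl]; rfl) }
    obtain ⟨Φ, hΦ⟩ := (Stk.restr (overIncl ι I) (fpOver j y)).map_surjective φ
    have hΦ₁ : ∀ g, (Φ.toNatTrans.app g).hom.fst = 𝟙 g := fun g =>
      (map_app_eq Φ g).trans (eqToHom_refl _ rfl)
    refine ⟨{ toNatTrans :=
                { app := fun g => (Φ.toNatTrans.app g).hom.snd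
                  naturality := fun g g' m => congrArg (fun t => t.hom.snd) (Φ.toNatTrans.naturality m) }
              isHomLift' := fun g => ?_ },
      bnt_ext fun x => congrArg (fun t => (t.toNatTrans.app x).hom.snd) hΦ⟩
    haveI h1 : 𝒴.p.IsHomLift (𝟙 ((overCat U).p.obj g)) (j.map (Φ.toNatTrans.app g).hom.snd) := by
      have w : y.map (Φ.toNatTrans.app g).hom.fst ≫ 𝟙 _ =
          (asIso β).inv.toNatTrans.app g ≫ j.map (Φ.toNatTrans.app g).hom.snd := (Φ.toNatTrans.app g).hom.w
      rw [hΦ₁ g] at w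
      erw [y.toFunctor.map_id, Category.id_comp] at w
      have h2 : j.map (Φ.toNatTrans.app g).hom.snd = β.toNatTrans.app g := by
        have h3 : β.toNatTrans.app g ≫ (asIso β).inv.toNatTrans.app g = 𝟙 _ :=
          congrArg (fun t => t.toNatTrans.app g) (asIso β).hom_inv_id
        have h4 := congrArg (β.toNatTrans.app g ≫ ·) w
        simp only [reassoc_of% h3] at h4
        exact h4.symm.trans (Category.comp_id _)
      rw [h2]
      exact β.isHomLift' g
    exact j.isHomLift_map (f := 𝟙 ((overCat U).p.obj g)) (φ := (Φ.toNatTrans.app g).hom.snd)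
  · intro a b γ γ' hγ
    have hj : BasedCategory.whiskerRight γ j = BasedCategory.whiskerRight γ' j :=
      (Stk.resSieve R 𝒴).map_injective (bnt_ext fun x =>
        congrArg j.map (congrArg (fun (t : (Stk.resSieve R 𝒳).obj a ⟶ (Stk.resSieve R 𝒳).obj b) =>
          t.toNatTrans.app x) hγ))
    set β := BasedCategory.whiskerRight γ j with hβ
    haveI := isIso_bnt β
    let y := BasedFunctor.comp b j
    haveI := hZ y
    let A : overFun I ⥤ᵇ fpOver j y := fpLiftOver j y (BasedFunctor.id _) a (asIso β).symm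
    let B : overFun I ⥤ᵇ fpOver j y := fpLiftOver j y (BasedFunctor.id _) b (Iso.refl _)
    have mk : ∀ δ : a ⟶ b, BasedCategory.whiskerRight δ j = β → ∃ Φ : A ⟶ B,
        ∀ g, (Φ.toNatTrans.app g).hom.fst = 𝟙 g ∧ (Φ.toNatTrans.app g).hom.snd = δ.toNatTrans.app g := by
      intro δ hδ
      refine ⟨{ app := fun g => fpHom (𝟙 _) (δ.toNatTrans.app g) ?_
                naturality := fun g g' m =>
                  fp_hom_ext ((Category.comp_id _).trans (Category.id_comp _).symm) (δ.toNatTrans.naturality m)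
                isHomLift' := fun g => isHomLift_id_of_eq _ _ rfl rfl (by rw [eqToHom_refl]; rfl) },
        fun g => ⟨rfl, rfl⟩⟩
      change y.map (𝟙 g) ≫ 𝟙 _ = (asIso β).inv.toNatTrans.app g ≫ j.map (δ.toNatTrans.app g)
      have hd : j.map (δ.toNatTrans.app g) = β.toNatTrans.app g := congrArg (fun t => t.toNatTrans.app g) hδ
      rw [hd, y.toFunctor.map_id]
      exact (Category.comp_id _).trans (congrArg (fun t => t.toNatTrans.app g) (asIso β).inv_hom_id).symm
    obtain ⟨Φ, hΦ⟩ := mk γ rfl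
    obtain ⟨Φ', hΦ'⟩ := mk γ' hj.symm
    have e : Φ = Φ' := (Stk.restr (overIncl ι I) (fpOver j y)).map_injective (bnt_ext fun x =>
      fp_hom_ext ((hΦ _).1.trans (hΦ' _).1.symm)
        ((hΦ _).2.trans ((congrArg (fun t => t.toNatTrans.app x) hγ).trans (hΦ' _).2.symm)))
    exact bnt_ext fun g => (hΦ g).2.symm.trans ((congrArg (fun t => (t.toNatTrans.app g).hom.snd) e).trans (hΦ' g).2)
  · intro K
    obtain ⟨y, ⟨ey⟩⟩ := (Functor.IsEquivalence.essSurj (F := Stk.resSieve R 𝒴)).mem_essImage
      (BasedFunctor.comp K j)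
    haveI := hZ y
    let K' : overFun (BasedFunctor.comp ι I) ⥤ᵇ fpOver j y :=
      { toFunctor := (fpLift ι K ey).toFunctor
        w := rfl }
    obtain ⟨B, ⟨eB⟩⟩ := (Functor.IsEquivalence.essSurj (F := Stk.restr (overIncl ι I) (fpOver j y))).mem_essImage K'
    let B' : overCat U ⥤ᵇ fp y j :=
      { toFunctor := B.toFunctor
        w := by
          show B.toFunctor ⋙ (fp y j).p = Over.forget U
          rw [← (fpFst y j).w, ← Functor.assoc]
          exact congrArg (· ⋙ Over.forget U) B.w }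
    let ν : (BasedFunctor.comp ι B').toFunctor ≅ (fpLift ι K ey).toFunctor :=
      (BasedNatTrans.forgetful _ _).mapIso eB
    let e' : BasedFunctor.comp ι B' ≅ fpLift ι K ey := BasedNatIso.mkNatIso ν fun x => by
      refine isHomLift_id_of_eq _ _ ((B'.w_obj _).trans (ι.w_obj x)) rfl ?_
      have h1 : (eB.hom.toNatTrans.app x).hom.fst = eqToHom (B.w_obj _) :=
        (map_app_eq eB.hom x).trans (by simp)
      show (Over.forget U).map ((fpFst y j).map (eB.hom.toNatTrans.app x)) = _
      rw [show (fpFst y j).map (eB.hom.toNatTrans.app x) = eqToHom (B.w_obj _) from h1, eqToHom_map]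
    exact ⟨BasedFunctor.comp B' (fpSnd y j), ⟨whiskerRightIso' e' (fpSnd y j)⟩⟩

end StkTopLib
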