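import Groth.Agent.FibLib.Basic
import Groth.Prelude.Def_W4stkalgstUpp
import Mathlib.CategoryTheory.Localization.CalculusOfFractions
import Mathlib.CategoryTheory.Limits.Shapes.Pullback.IsPullback.Basic
import Mathlib.CategoryTheory.Limits.Preserves.Shapes.Equalizers
import Mathlib.CategoryTheory.Limits.Shapes.FiniteLimits
import Mathlib.CategoryTheory.FiberedCategory.Fibered

/-!
# The pullback of a fibred category along a functor of the bases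
-/

set_option autoImplicit false
set_option backward.isDefEq.respectTransparency false
set_option backward.isDefEq.respectTransparency.types false

universe v₃ u₃ v₂ u₂ v u

open CategoryTheory CategoryTheory.Limits FibCat FibLib
open CategoryTheory.Functor (Fiber IsStronglyCartesian)

namespace StkTopLib

variable {C : Type u} [Category.{v} C] {D : Type u₂} [Category.{v₂} D] (u : C ⥤ D)
  (𝒮 : BasedCategory.{v₃, u₃} C)

theorem uppR_isMultiplicative : (Stk.uppR u 𝒮).IsMultiplicative where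
  id_mem a := ⟨by
    show 𝒮.p.IsStronglyCartesian (𝒮.p.map (𝟙 a.x)) (𝟙 a.x)
    haveI : 𝒮.p.IsHomLift (𝒮.p.map (𝟙 a.x)) (𝟙 a.x) := IsHomLift.map 𝒮.p (𝟙 a.x)
    infer_instance, by
    show IsIso (𝟙 a.V)
    infer_instance⟩
  comp_mem f g hf hg := ⟨by
    haveI := hf.1
    haveI := hg.1
    show 𝒮.p.IsStronglyCartesian (𝒮.p.map (f.top ≫ g.top)) (f.top ≫ g.top)
    rw [Functor.map_comp]
    infer_instance, by
    haveI := hf.2
    haveI := hg.2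
    show IsIso (f.bot ≫ g.bot)
    infer_instance⟩

variable [𝒮.p.IsFibered]

theorem uppR_hasRightCalculusOfFractions [HasPullbacks C] [HasEqualizers C]
    [PreservesLimitsOfShape WalkingCospan u] [PreservesLimitsOfShape WalkingParallelPair u] :
    (Stk.uppR u 𝒮).HasRightCalculusOfFractions := by
  haveI := uppR_isMultiplicative u 𝒮
  refine { exists_rightFraction := fun a b φ => ?_, ext := fun a b c f₁ f₂ s hs h => ?_ }
  · haveI := φ.hs.1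
    haveI := φ.hs.2
    obtain ⟨P, π₁, π₂, hP⟩ : ∃ (P : C) (π₁ : P ⟶ 𝒮.p.obj a.x) (π₂ : P ⟶ 𝒮.p.obj b.x),
        IsPullback π₁ π₂ (𝒮.p.map φ.f.top) (𝒮.p.map φ.s.top) :=
      ⟨_, _, _, IsPullback.of_hasPullback _ _⟩
    have hP' := Functor.map_isPullback u hP
    have hw : a.φ ≫ u.map (𝒮.p.map φ.f.top) = (φ.f.bot ≫ inv φ.s.bot ≫ b.φ) ≫ u.map (𝒮.p.map φ.s.top) := by
      rw [φ.f.w, Category.assoc, Category.assoc, φ.s.w, IsIso.inv_hom_id_assoc]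
    let l : a.V ⟶ u.obj P := hP'.lift a.φ (φ.f.bot ≫ inv φ.s.bot ≫ b.φ) hw
    have hl₁ : l ≫ u.map π₁ = a.φ := hP'.lift_fst _ _ _
    have hl₂ : l ≫ u.map π₂ = φ.f.bot ≫ inv φ.s.bot ≫ b.φ := hP'.lift_snd _ _ _
    clear_value l
    obtain ⟨d, t, ht⟩ := exists_stronglyCartesian 𝒮.p (rfl : 𝒮.p.obj a.x = _) π₁
    haveI := ht
    have hd : 𝒮.p.obj d = P := IsHomLift.domain_eq 𝒮.p π₁ t
    subst hd
    have hπ : π₁ = 𝒮.p.map t := by
      have := IsHomLift.fac 𝒮.p π₁ t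
      simpa using this
    subst hπ
    haveI : 𝒮.p.IsHomLift (𝒮.p.map (t ≫ φ.f.top)) (t ≫ φ.f.top) := IsHomLift.map _ _
    have hg : 𝒮.p.map (t ≫ φ.f.top) = π₂ ≫ 𝒮.p.map φ.s.top := by rw [Functor.map_comp, hP.w]
    let g := IsStronglyCartesian.map 𝒮.p (𝒮.p.map φ.s.top) φ.s.top hg (t ≫ φ.f.top)
    have hg₁ : g ≫ φ.s.top = t ≫ φ.f.top := IsStronglyCartesian.fac 𝒮.p _ _ hg _
    haveI : 𝒮.p.IsHomLift π₂ g := IsStronglyCartesian.map_isHomLift 𝒮.p _ _ hg _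
    have hg₂ : 𝒮.p.map g = π₂ := (IsHomLift.eq_of_isHomLift 𝒮.p π₂ g).symm
    let O : Stk.UppObj u 𝒮 := ⟨d, a.V, l⟩
    let s' : O ⟶ a := ⟨t, 𝟙 _, hl₁.trans (Category.id_comp _).symm⟩
    let f' : O ⟶ b := ⟨g, φ.f.bot ≫ inv φ.s.bot, by
      show l ≫ u.map (𝒮.p.map g) = _
      rw [hg₂, hl₂, Category.assoc]⟩
    refine ⟨⟨s', ⟨ht, inferInstanceAs (IsIso (𝟙 a.V))⟩, f'⟩, Stk.UppObj.hom_ext hg₁.symm ?_⟩
    show 𝟙 a.V ≫ φ.f.bot = (φ.f.bot ≫ inv φ.s.bot) ≫ φ.s.bot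
    simp
  · haveI := hs.1
    haveI := hs.2
    have hbot : f₁.bot = f₂.bot :=
      (cancel_mono s.bot).1 (congrArg Stk.UppObj.Hom.bot h)
    have htop : f₁.top ≫ s.top = f₂.top ≫ s.top := congrArg Stk.UppObj.Hom.top h
    let g₁ := 𝒮.p.map f₁.top
    let g₂ := 𝒮.p.map f₂.top
    obtain ⟨E, ι, hι, l, hl⟩ : ∃ (E : C) (ι : E ⟶ 𝒮.p.obj a.x) (_ : ι ≫ g₁ = ι ≫ g₂) (l : a.V ⟶ u.obj E),
        l ≫ u.map ι = a.φ := by
      obtain ⟨l, hl⟩ := Fork.IsLimit.lift' (isLimitOfHasEqualizerOfPreservesLimit u g₁ g₂) a.φ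
        (by rw [f₁.w, f₂.w, hbot])
      exact ⟨_, _, equalizer.condition g₁ g₂, l, hl⟩
    obtain ⟨d, t, ht⟩ := exists_stronglyCartesian 𝒮.p (rfl : 𝒮.p.obj a.x = _) ι
    haveI := ht
    have hd : 𝒮.p.obj d = E := IsHomLift.domain_eq 𝒮.p ι t
    subst hd
    have hπ : ι = 𝒮.p.map t := by
      have := IsHomLift.fac 𝒮.p ι t
      simpa using this
    subst hπ
    let O : Stk.UppObj u 𝒮 := ⟨d, a.V, l⟩
    let s' : O ⟶ a := ⟨t, 𝟙 _, hl.trans (Category.id_comp _).symm⟩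
    refine ⟨O, s', ⟨ht, inferInstanceAs (IsIso (𝟙 a.V))⟩, Stk.UppObj.hom_ext ?_ ?_⟩
    · show t ≫ f₁.top = t ≫ f₂.top
      have e : 𝒮.p.map (t ≫ f₁.top) = 𝒮.p.map (t ≫ f₂.top) := by
        rw [Functor.map_comp, Functor.map_comp]
        exact hι
      haveI : 𝒮.p.IsHomLift (𝒮.p.map (t ≫ f₁.top)) (t ≫ f₂.top) := e ▸ IsHomLift.map 𝒮.p (t ≫ f₂.top)
      refine IsStronglyCartesian.ext 𝒮.p (𝒮.p.map s.top) s.top (𝒮.p.map (t ≫ f₁.top)) ?_
      rw [Category.assoc, Category.assoc, htop]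
    · show 𝟙 a.V ≫ f₁.bot = 𝟙 a.V ≫ f₂.bot
      rw [hbot]

variable [(Stk.uppR u 𝒮).HasRightCalculusOfFractions]

omit [𝒮.p.IsFibered] in
lemma map_bot (a b : Stk.UppObj u 𝒮) (f : a ⟶ b) :
    (Stk.up u 𝒮).p.map ((Stk.uppR u 𝒮).Q.map f) = f.bot := by
  have := Functor.congr_hom (Localization.Construction.fac (Stk.UppObj.forget u 𝒮) (Stk.uppR_isInvertedBy u 𝒮)) f
  refine this.trans ?_
  simp

omit [𝒮.p.IsFibered] in
/-- Morphisms of the localisation as fractions. -/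
lemma exists_frac {a b : Stk.UppObj u 𝒮} (ψ : (Stk.uppR u 𝒮).Q.obj a ⟶ (Stk.uppR u 𝒮).Q.obj b) :
    ∃ (a' : Stk.UppObj u 𝒮) (t : a' ⟶ a) (_ : Stk.uppR u 𝒮 t) (f : a' ⟶ b),
      (Stk.uppR u 𝒮).Q.map t ≫ ψ = (Stk.uppR u 𝒮).Q.map f ∧ t.bot ≫ (Stk.up u 𝒮).p.map ψ = f.bot := by
  obtain ⟨φ, rfl⟩ := Localization.exists_rightFraction (Stk.uppR u 𝒮).Q (Stk.uppR u 𝒮) ψ
  refine ⟨φ.X', φ.s, φ.hs, φ.f, φ.map_s_comp_map _ _, ?_⟩
  rw [← map_bot u 𝒮 _ _ φ.s, ← map_bot u 𝒮 _ _ φ.f]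
  exact (((Stk.up u 𝒮).p.map_comp _ _).symm).trans
    (congrArg (Stk.up u 𝒮).p.map (φ.map_s_comp_map (Stk.uppR u 𝒮).Q (Localization.inverts _ _)))

omit [𝒮.p.IsFibered] in
theorem isStronglyCartesian_Q_map {a b : Stk.UppObj u 𝒮} (m : b ⟶ a) (hm : IsIso m.top) :
    (Stk.up u 𝒮).p.IsStronglyCartesian m.bot ((Stk.uppR u 𝒮).Q.map m) := by
  let Q := (Stk.uppR u 𝒮).Q
  let W := Stk.uppR u 𝒮
  haveI hlift : (Stk.up u 𝒮).p.IsHomLift m.bot (Q.map m) := by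
    refine IsHomLift.of_fac' _ _ _ rfl rfl ?_
    rw [map_bot]
    simp
  refine { toIsHomLift := hlift, universal_property' := fun {Z} h ψ hψ => ?_ }
  obtain ⟨c, rfl⟩ := (Localization.Construction.objEquiv W).surjective Z
  have hψ' : (Stk.up u 𝒮).p.map ψ = h ≫ m.bot :=
    ((@IsHomLift.fac' _ _ _ _ (Stk.up u 𝒮).p _ _ _ _ (h ≫ m.bot) ψ hψ).trans (Category.id_comp _)).trans
      (Category.comp_id _)
  obtain ⟨c', t, ht, f, hf, hf'⟩ := exists_frac u 𝒮 ψ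
  rw [hψ'] at hf'
  haveI := ht.2
  haveI : IsIso (Q.map t) := Localization.inverts Q W t ht
  have hw : c'.φ ≫ u.map (𝒮.p.map (f.top ≫ inv m.top)) = (t.bot ≫ h) ≫ b.φ := by
    rw [Functor.map_comp, Functor.map_comp, ← Category.assoc, f.w, ← hf', Functor.map_inv, Functor.map_inv,
      IsIso.comp_inv_eq, Category.assoc, Category.assoc, Category.assoc, m.w]
    erw [Category.assoc]
  let f' : c' ⟶ b := ⟨f.top ≫ inv m.top, t.bot ≫ h, hw⟩
  refine ⟨inv (Q.map t) ≫ Q.map f', ⟨?_, ?_⟩, fun χ hχ => ?_⟩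
  · refine IsHomLift.of_fac' _ _ _ rfl rfl ?_
    rw [Functor.map_comp, Functor.map_inv, IsIso.inv_comp_eq]
    erw [map_bot, map_bot]
    simp [f']
  · rw [Category.assoc, IsIso.inv_comp_eq, ← Q.map_comp]
    refine (congrArg Q.map (Stk.UppObj.hom_ext ?_ ?_)).trans hf.symm
    · simp [f']
    · simp [f', ← hf']
  · obtain ⟨hχ₁, hχ₂⟩ := hχ
    obtain ⟨c'', t', ht', k, hk, hk'⟩ := exists_frac u 𝒮 χ
    have hχ' : (Stk.up u 𝒮).p.map χ = h :=
      (@IsHomLift.eq_of_isHomLift _ _ _ _ (Stk.up u 𝒮).p _ _ h χ hχ₁).symm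
    rw [hχ'] at hk'
    -- a common denominator
    obtain ⟨r, hr⟩ := MorphismProperty.HasRightCalculusOfFractions.exists_rightFraction
      (MorphismProperty.LeftFraction.mk t' t ht : W.LeftFraction c'' c')
    haveI : IsIso (Q.map r.s) := Localization.inverts Q W r.s r.hs
    haveI : IsIso (Q.map t') := Localization.inverts Q W t' ht'
    rw [← cancel_epi (Q.map t'), hk, ← cancel_epi (Q.map r.s), ← Q.map_comp, ← Q.map_comp_assoc, hr,
      Q.map_comp_assoc, IsIso.hom_inv_id_assoc, ← Q.map_comp]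
    have he : Q.map ((r.s ≫ k) ≫ m) = Q.map ((r.f ≫ f') ≫ m) := by
      have e1 : f' ≫ m = f := Stk.UppObj.hom_ext (by simp [f']) (by simp [f', ← hf'])
      rw [Category.assoc, Category.assoc, e1, Q.map_comp, Q.map_comp, Q.map_comp, ← hk, Category.assoc, hχ₂,
        ← hf, ← Category.assoc, ← Category.assoc, ← Q.map_comp, ← Q.map_comp, hr]
    obtain ⟨X, s, hs, hse⟩ := (MorphismProperty.map_eq_iff_precomp Q W _ _).1 he
    refine (MorphismProperty.map_eq_iff_precomp Q W _ _).2 ⟨X, s, hs, Stk.UppObj.hom_ext ?_ ?_⟩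
    · have := congrArg Stk.UppObj.Hom.top hse
      simp only [Stk.UppObj.comp_top] at this ⊢
      rw [← cancel_mono m.top]
      simpa [Category.assoc] using this
    · have hb : r.s.bot ≫ t'.bot = r.f.bot ≫ t.bot := congrArg Stk.UppObj.Hom.bot hr
      simp only [Stk.UppObj.comp_bot, f']
      rw [← hk', reassoc_of% hb]

theorem isFibered_up : (Stk.up u 𝒮).p.IsFibered :=
  CategoryTheory.Functor.IsFibered.of_exists_isStronglyCartesian fun A V g => by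
    obtain ⟨a, rfl⟩ := (Localization.Construction.objEquiv (Stk.uppR u 𝒮)).surjective A
    let m : (⟨a.x, V, g ≫ a.φ⟩ : Stk.UppObj u 𝒮) ⟶ a := ⟨𝟙 a.x, g, by simp⟩
    exact ⟨_, _, isStronglyCartesian_Q_map u 𝒮 m (inferInstanceAs (IsIso (𝟙 a.x)))⟩

theorem isFibGrpd_up (h𝒮 : IsFibGrpd 𝒮.p) : IsFibGrpd (Stk.up u 𝒮).p := by
  refine (isFibGrpd_iff _).2 ⟨isFibered_up u 𝒮, fun U => ⟨fun {A B} ψ => ?_⟩⟩
  obtain ⟨A, hA⟩ := A
  obtain ⟨B, hB⟩ := B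
  obtain ⟨ψ, hψ⟩ := ψ
  obtain ⟨a, rfl⟩ := (Localization.Construction.objEquiv (Stk.uppR u 𝒮)).surjective A
  obtain ⟨b, rfl⟩ := (Localization.Construction.objEquiv (Stk.uppR u 𝒮)).surjective B
  haveI := hψ
  obtain ⟨a', t, ht, f, hf, hf'⟩ := exists_frac u 𝒮 ψ
  haveI := ht.2
  haveI : IsIso (((Stk.uppR u 𝒮).Q.map t)) := Localization.inverts _ _ t ht
  have hbot : IsIso f.bot := by
    rw [← hf', IsHomLift.fac' (Stk.up u 𝒮).p (𝟙 U) ψ]
    erw [Category.id_comp]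
    infer_instance
  haveI : IsIso ((Stk.uppR u 𝒮).Q.map f) :=
    Localization.inverts _ (Stk.uppR u 𝒮) f ⟨h𝒮.isStronglyCartesian f.top, hbot⟩
  haveI : IsIso ((Stk.uppR u 𝒮).Q.map t ≫ ψ) := by rw [hf]; infer_instance
  haveI : IsIso ψ := IsIso.of_isIso_comp_left ((Stk.uppR u 𝒮).Q.map t) ψ
  exact (fiber_isIso_iff _ _).2 ‹IsIso ψ›

end StkTopLib
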