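import Groth.Agent.StkTopLib.Local
import Groth.Agent.StkTopLib.Basic

/-!
# Changing the base of stacks
-/

set_option autoImplicit false
set_option backward.isDefEq.respectTransparency false
set_option backward.isDefEq.respectTransparency.types false

universe v₁ u₁ v₂ u₂ v₃ u₃ v₄ u₄ v₅ u₅ v u

open CategoryTheory FibCat FibLib AlgStLib
open CategoryTheory.Functor (Fiber IsStronglyCartesian)

namespace StkTopLib

section Strictify

variable {B : Type u} [Category.{v} B] {𝒵 : BasedCategory.{v₁, u₁} B} {𝒲 : BasedCategory.{v₂, u₂} B}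

/-- A functor commuting with the structure functors up to isomorphism is isomorphic to a based one. -/
theorem exists_strictify [IsFibGrpd 𝒵.p] (P : 𝒲.obj ⥤ 𝒵.obj) (θ : P ⋙ 𝒵.p ≅ 𝒲.p) :
    ∃ (G : 𝒲 ⥤ᵇ 𝒵) (e : P ≅ G.toFunctor), ∀ w, 𝒵.p.IsHomLift (θ.hom.app w) (e.hom.app w) := by
  choose g e he using fun w => exists_iso_lift 𝒵.p (θ.app w) (P.obj w) rfl
  have hobj : ∀ w, 𝒵.p.obj (g w) = 𝒲.p.obj w := fun w =>
    IsHomLift.codomain_eq 𝒵.p (θ.app w).hom (e w).hom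
  let G₀ : 𝒲.obj ⥤ 𝒵.obj :=
    { obj := g
      map := fun {a b} f => (e a).inv ≫ P.map f ≫ (e b).hom
      map_id := fun a => by simp
      map_comp := fun f f' => by simp }
  have hlift : ∀ {a b : 𝒲.obj} (f : a ⟶ b), 𝒵.p.IsHomLift (𝒲.p.map f) (G₀.map f) := by
    intro a b f
    haveI := he a
    haveI := he b
    haveI : 𝒵.p.IsHomLift (θ.app a).inv (e a).inv := IsHomLift.inv_lift_inv 𝒵.p (θ.app a) (e a)
    haveI : 𝒵.p.IsHomLift ((P ⋙ 𝒵.p).map f) (P.map f) := IsHomLift.map 𝒵.p (P.map f)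
    have h : 𝒵.p.IsHomLift ((θ.app a).inv ≫ (P ⋙ 𝒵.p).map f ≫ (θ.app b).hom)
        ((e a).inv ≫ P.map f ≫ (e b).hom) := inferInstance
    have eq : (θ.app a).inv ≫ (P ⋙ 𝒵.p).map f ≫ (θ.app b).hom = 𝒲.p.map f := by
      simp only [Iso.app_inv, Iso.app_hom, θ.hom.naturality, Iso.inv_hom_id_app_assoc]
    rwa [eq] at h
  exact ⟨{ toFunctor := G₀
           w := CategoryTheory.Functor.ext hobj (fun a b f => by
             haveI := hlift f
             exact IsHomLift.fac' 𝒵.p (𝒲.p.map f) (G₀.map f)) },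
    NatIso.ofComponents e (fun {a b} f => by simp [G₀]), he⟩

/-- The projection of a based functor is the structure functor. -/
def wIso (G : 𝒲 ⥤ᵇ 𝒵) : G.toFunctor ⋙ 𝒵.p ≅ 𝒲.p := eqToIso G.w

lemma wIso_app (G : 𝒲 ⥤ᵇ 𝒵) (w : 𝒲.obj) : (wIso G).hom.app w = eqToHom (G.w_obj w) := by
  rw [wIso, eqToIso.hom, eqToHom_app]

/-- Precomposition with an equivalence is an equivalence. -/
theorem restr_isEquivalence_of_isEquivalence [IsFibGrpd 𝒵.p] {𝒱 : BasedCategory.{v₃, u₃} B}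
    (E : 𝒱 ⥤ᵇ 𝒲) [E.toFunctor.IsEquivalence] : (Stk.restr E 𝒵).IsEquivalence := by
  let e := E.toFunctor.asEquivalence
  let w : ((Functor.whiskeringLeft 𝒱.obj 𝒲.obj 𝒵.obj).obj E.toFunctor).IsEquivalence :=
    inferInstance
  haveI hff : (Stk.restr E 𝒵).Full ∧ (Stk.restr E 𝒵).Faithful := by
    refine ⟨⟨fun {G G'} α => ?_⟩, ⟨fun {G G'} β β' h => ?_⟩⟩
    · obtain ⟨β, hβ⟩ := ((Functor.whiskeringLeft 𝒱.obj 𝒲.obj 𝒵.obj).obj E.toFunctor).map_surjective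
        (X := G.toFunctor) (Y := G'.toFunctor) α.toNatTrans
      have hb : ∀ b, 𝒵.p.IsHomLift (𝟙 (𝒲.p.obj b)) (β.app b) := by
        intro b
        let a := E.toFunctor.objPreimage b
        let i : E.obj a ≅ b := E.toFunctor.objObjPreimageIso b
        have ha : 𝒵.p.IsHomLift (𝟙 (𝒲.p.obj (E.obj a))) (β.app (E.obj a)) := by
          rw [show β.app (E.obj a) = α.toNatTrans.app a from congrArg (fun t => t.app a) hβ]
          exact BasedNatTrans.isHomLift α (E.w_obj a).symm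
        have e : β.app b = G.map i.inv ≫ β.app (E.obj a) ≫ G'.map i.hom := by
          rw [← β.naturality, ← G.toFunctor.map_comp_assoc, Iso.inv_hom_id, G.toFunctor.map_id,
            Category.id_comp]
        haveI := ha
        haveI : 𝒵.p.IsHomLift (𝒲.p.map i.inv) (G.map i.inv) :=
          @BasedFunctor.preserves_isHomLift _ _ _ _ G _ _ _ _ (𝒲.p.map i.inv) i.inv (IsHomLift.map 𝒲.p i.inv)
        haveI : 𝒵.p.IsHomLift (𝒲.p.map i.hom) (G'.map i.hom) :=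
          @BasedFunctor.preserves_isHomLift _ _ _ _ G' _ _ _ _ (𝒲.p.map i.hom) i.hom (IsHomLift.map 𝒲.p i.hom)
        have h : 𝒵.p.IsHomLift (𝒲.p.map i.inv ≫ 𝟙 _ ≫ 𝒲.p.map i.hom)
            (G.map i.inv ≫ β.app (E.obj a) ≫ G'.map i.hom) := inferInstance
        rw [Category.id_comp, ← CategoryTheory.Functor.map_comp, Iso.inv_hom_id, CategoryTheory.Functor.map_id, ← e] at h
        exact h
      exact ⟨{ toNatTrans := β, isHomLift' := hb }, bnt_ext fun a => congrArg (fun t => t.app a) hβ⟩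
    · have := ((Functor.whiskeringLeft 𝒱.obj 𝒲.obj 𝒵.obj).obj E.toFunctor).map_injective
          (X := G.toFunctor) (Y := G'.toFunctor) (a₁ := β.toNatTrans) (a₂ := β'.toNatTrans)
          (NatTrans.ext (funext fun a => congrArg (fun t => t.toNatTrans.app a) h))
      exact bnt_ext fun b => congrArg (fun t : G.toFunctor ⟶ G'.toFunctor => t.app b) this
  refine { full := hff.1, faithful := hff.2, essSurj := ⟨fun K => ?_⟩ }
  let θ : (e.inverse ⋙ K.toFunctor) ⋙ 𝒵.p ≅ 𝒲.p :=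
    Functor.associator _ _ _ ≪≫ Functor.isoWhiskerLeft e.inverse (wIso K ≪≫ (wIso E).symm) ≪≫
      (Functor.associator _ _ _).symm ≪≫ Functor.isoWhiskerRight e.counitIso 𝒲.p ≪≫ Functor.leftUnitor _
  obtain ⟨G, ε, hε⟩ := exists_strictify (e.inverse ⋙ K.toFunctor) θ
  let ν : E.toFunctor ⋙ G.toFunctor ≅ K.toFunctor :=
    Functor.isoWhiskerLeft E.toFunctor ε.symm ≪≫ (Functor.associator _ _ _).symm ≪≫
      Functor.isoWhiskerRight e.unitIso.symm K.toFunctor ≪≫ Functor.leftUnitor _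
  refine ⟨G, ⟨BasedNatIso.mkNatIso ν fun a => ?_⟩⟩
  haveI := hε (E.obj a)
  haveI : 𝒵.p.IsHomLift (θ.app (E.obj a)).hom (ε.app (E.obj a)).hom := hε (E.obj a)
  haveI : 𝒵.p.IsHomLift (θ.app (E.obj a)).inv (ε.app (E.obj a)).inv :=
    IsHomLift.inv_lift_inv 𝒵.p (θ.app (E.obj a)) (ε.app (E.obj a))
  haveI : 𝒵.p.IsHomLift (𝒱.p.map (e.unitIso.inv.app a)) (K.map (e.unitIso.inv.app a)) :=
    @BasedFunctor.preserves_isHomLift _ _ _ _ K _ _ _ _ _ _ (IsHomLift.map 𝒱.p (e.unitIso.inv.app a))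
  refine IsHomLift.of_fac _ _ _ ?_ (K.w_obj a) ?_
  · exact (G.w_obj _).trans (E.w_obj a)
  have h1 := @IsHomLift.fac' _ _ _ _ 𝒵.p _ _ _ _ (θ.inv.app (E.obj a)) (ε.inv.app (E.obj a))
    (IsHomLift.inv_lift_inv 𝒵.p (θ.app (E.obj a)) (ε.app (E.obj a)))
  have h2 : 𝒱.p.map (e.unitIso.inv.app a) = eqToHom (E.w_obj _).symm ≫ 𝒲.p.map (E.map (e.unitIso.inv.app a)) ≫
      eqToHom (E.w_obj _) := by
    have := Functor.congr_hom E.w.symm (e.unitIso.inv.app a)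
    exact this
  have h4 : E.map (e.unitIso.inv.app a) = e.counitIso.hom.app (E.obj a) := by
    exact (e.counit_app_functor a).symm
  have h3 := Functor.congr_hom K.w (e.unitIso.inv.app a)
  have hν : ν.hom.app a = ε.inv.app (E.obj a) ≫ K.map (e.unitIso.inv.app a) := by
    simp [ν]
  rw [hν]
  simp only [Functor.map_comp, h1]
  erw [h3]
  rw [h2, h4]
  simp only [θ, Iso.trans_inv, Iso.symm_inv, NatTrans.comp_app, Functor.isoWhiskerLeft_inv,
    Functor.whiskerLeft_app, Functor.isoWhiskerRight_inv, Functor.whiskerRight_app,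
    Functor.associator_hom_app, Functor.associator_inv_app, Functor.leftUnitor_inv_app,
    wIso, eqToIso.inv, eqToIso.hom, eqToHom_app]
  simp [← Functor.map_comp_assoc]

/-- Equivalent sources give equivalent restrictions. -/
theorem restr_isEquivalence_transfer [IsFibGrpd 𝒵.p] {𝒱 : BasedCategory.{v₃, u₃} B}
    {𝒱' : BasedCategory.{v₄, u₄} B} {𝒲' : BasedCategory.{v₅, u₅} B} {ι : 𝒱 ⥤ᵇ 𝒲} {ι' : 𝒱' ⥤ᵇ 𝒲'}
    (E₁ : 𝒱 ⥤ᵇ 𝒱') (E₂ : 𝒲 ⥤ᵇ 𝒲') [E₁.toFunctor.IsEquivalence] [E₂.toFunctor.IsEquivalence]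
    (e : BasedFunctor.comp E₁ ι' ≅ BasedFunctor.comp ι E₂) :
    (Stk.restr ι' 𝒵).IsEquivalence ↔ (Stk.restr ι 𝒵).IsEquivalence := by
  haveI := restr_isEquivalence_of_isEquivalence (𝒵 := 𝒵) E₁
  haveI := restr_isEquivalence_of_isEquivalence (𝒵 := 𝒵) E₂
  let i : Stk.restr ι' 𝒵 ⋙ Stk.restr E₁ 𝒵 ≅ Stk.restr E₂ 𝒵 ⋙ Stk.restr ι 𝒵 :=
    NatIso.ofComponents (fun G => whiskerRightIso' e G)
      (fun {G G'} α => bnt_ext fun a => (α.toNatTrans.naturality (e.hom.toNatTrans.app a)).symm)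
  constructor
  · intro h
    haveI : (Stk.restr E₂ 𝒵 ⋙ Stk.restr ι 𝒵).IsEquivalence := Functor.isEquivalence_of_iso i
    exact Functor.isEquivalence_of_comp_left (Stk.restr E₂ 𝒵) _
  · intro h
    haveI : (Stk.restr ι' 𝒵 ⋙ Stk.restr E₁ 𝒵).IsEquivalence := Functor.isEquivalence_of_iso i.symm
    exact Functor.isEquivalence_of_comp_right _ (Stk.restr E₁ 𝒵)

end Strictify

section Down

variable {C : Type u} [Category.{v} C] (𝒴 : BasedCategory.{v₁, u₁} C)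

/-- A category over `𝒴`, seen over `C`. -/
abbrev down (𝒜 : BasedCategory.{v₂, u₂} 𝒴.obj) : BasedCategory.{v₂, u₂} C :=
  BasedCategory.ofFunctor (𝒜.p ⋙ 𝒴.p)

variable {𝒜 : BasedCategory.{v₂, u₂} 𝒴.obj} {ℬ : BasedCategory.{v₃, u₃} 𝒴.obj}

/-- A functor over `𝒴`, seen over `C`. -/
abbrev downMap (G : 𝒜 ⥤ᵇ ℬ) : down 𝒴 𝒜 ⥤ᵇ down 𝒴 ℬ :=
  { toFunctor := G.toFunctor
    w := by
      show (G.toFunctor ⋙ ℬ.p) ⋙ 𝒴.p = 𝒜.p ⋙ 𝒴.p
      rw [G.w] }

lemma isHomLift_down {R S : 𝒴.obj} (f : R ⟶ S) {a b : 𝒜.obj} (φ : a ⟶ b) [𝒜.p.IsHomLift f φ]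
    {R' S' : C} (g : R' ⟶ S') [𝒴.p.IsHomLift g f] : (𝒜.p ⋙ 𝒴.p).IsHomLift g φ := by
  subst_hom_lift 𝒜.p f φ
  subst_hom_lift 𝒴.p g (𝒜.p.map φ)
  exact IsHomLift.map (p := 𝒜.p ⋙ 𝒴.p) φ

variable {𝒴}

/-- A 2-morphism over `𝒴`, seen over `C`. -/
def downHom {G G' : 𝒜 ⥤ᵇ ℬ} (α : G ⟶ G') : downMap 𝒴 G ⟶ downMap 𝒴 G' where
  toNatTrans := α.toNatTrans
  isHomLift' a := by
    haveI := α.isHomLift' a
    haveI : 𝒴.p.IsHomLift (𝟙 (𝒴.p.obj (𝒜.p.obj a))) (𝟙 (𝒜.p.obj a)) := IsHomLift.id rfl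
    exact isHomLift_down 𝒴 (𝟙 (𝒜.p.obj a)) (α.toNatTrans.app a) (𝟙 (𝒴.p.obj (𝒜.p.obj a)))

/-- The structure functor as a based functor. -/
abbrev strFun (ℬ : BasedCategory.{v₃, u₃} 𝒴.obj) : down 𝒴 ℬ ⥤ᵇ 𝒴 := ⟨ℬ.p, rfl⟩

/-- The composite with the structure functor. -/
def strIso (G : 𝒜 ⥤ᵇ ℬ) : BasedFunctor.comp (downMap 𝒴 G) (strFun ℬ) ≅ strFun 𝒜 :=
  BasedNatIso.mkNatIso (wIso G) fun a => by
    rw [wIso_app]
    exact IsHomLift.of_fac _ _ _ (by show 𝒴.p.obj (ℬ.p.obj (G.obj a)) = _; rw [G.w_obj]; rfl) rfl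
      (by simp [eqToHom_map])

lemma isHomLift_id_of_eq {B : Type*} [Category B] {E : Type*} [Category E] (q : E ⥤ B) {a b : E} {S : B}
    (φ : a ⟶ b) (ha : q.obj a = S) (hb : q.obj b = S) (h : q.map φ = eqToHom (ha.trans hb.symm)) :
    q.IsHomLift (𝟙 S) φ :=
  IsHomLift.of_fac _ _ _ ha hb (by rw [h]; simp)

variable {𝒳 : BasedCategory.{v₄, u₄} C} (F : 𝒳 ⥤ᵇ 𝒴)

/-- A functor over `𝒴` into a category over `C`. -/
abbrev downTo (G : 𝒜 ⥤ᵇ BasedCategory.ofFunctor F.toFunctor) : down 𝒴 𝒜 ⥤ᵇ 𝒳 :=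
  { toFunctor := G.toFunctor
    w := by
      show G.toFunctor ⋙ 𝒳.p = 𝒜.p ⋙ 𝒴.p
      rw [← F.w, ← Functor.assoc]
      exact congrArg (· ⋙ 𝒴.p) G.w }

/-- Morphisms over `𝒴` give morphisms over `C`. -/
def downToHom {G G' : 𝒜 ⥤ᵇ BasedCategory.ofFunctor F.toFunctor} (α : G ⟶ G') : downTo F G ⟶ downTo F G' where
  toNatTrans := α.toNatTrans
  isHomLift' a := by
    haveI : F.toFunctor.IsHomLift (𝟙 (𝒜.p.obj a)) (α.toNatTrans.app a) := α.isHomLift' a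
    haveI : 𝒴.p.IsHomLift (𝟙 (𝒴.p.obj (𝒜.p.obj a))) (F.map (α.toNatTrans.app a)) := by
      refine isHomLift_id_of_eq _ _ (congrArg 𝒴.p.obj (G.w_obj a)) (congrArg 𝒴.p.obj (G'.w_obj a)) ?_
      rw [IsHomLift.fac' F.toFunctor (𝟙 (𝒜.p.obj a)) (α.toNatTrans.app a)]
      simp [eqToHom_map]
    exact F.isHomLift_map (f := 𝟙 (𝒴.p.obj (𝒜.p.obj a))) (φ := α.toNatTrans.app a)

/-- Descent over `𝒴` from descent over `C`. -/
theorem restr_isEquivalence_over [hF : IsFibGrpd F.toFunctor] [IsFibGrpd 𝒴.p] {ι : 𝒜 ⥤ᵇ ℬ}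
    (hX : (Stk.restr (downMap 𝒴 ι) 𝒳).IsEquivalence)
    (hYf : (Stk.restr (downMap 𝒴 ι) 𝒴).Full) (hYF : (Stk.restr (downMap 𝒴 ι) 𝒴).Faithful) :
    (Stk.restr ι (BasedCategory.ofFunctor F.toFunctor)).IsEquivalence := by
  let Z := BasedCategory.ofFunctor F.toFunctor
  haveI : IsFibGrpd Z.p := hF
  refine { faithful := ⟨?_⟩, full := ⟨?_⟩, essSurj := ⟨fun K => ?_⟩ }
  · intro G G' β β' h
    have := (Stk.restr (downMap 𝒴 ι) 𝒳).map_injective (a₁ := downToHom F β) (a₂ := downToHom F β')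
      (bnt_ext fun a => congrArg (fun t => t.toNatTrans.app a) h)
    exact bnt_ext fun b => congrArg (fun t => t.toNatTrans.app b) this
  · intro G G' α
    obtain ⟨β, hβ⟩ := (Stk.restr (downMap 𝒴 ι) 𝒳).map_surjective (X := downTo F G) (Y := downTo F G') (downToHom F α)
    let γ : BasedFunctor.comp (downTo F G) F ⟶ BasedFunctor.comp (downTo F G') F :=
      { toNatTrans := eqToHom (G.w.trans G'.w.symm)
        isHomLift' := fun b => by
          rw [eqToHom_app]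
          exact isHomLift_id_of_eq _ _ (congrArg 𝒴.p.obj (G.w_obj b)) (congrArg 𝒴.p.obj (G'.w_obj b))
            (by simp [eqToHom_map]) }
    have hγ : BasedCategory.whiskerRight β F = γ := by
      refine (Stk.restr (downMap 𝒴 ι) 𝒴).map_injective (bnt_ext fun a => ?_)
      change F.map (β.toNatTrans.app (ι.obj a)) = γ.toNatTrans.app (ι.obj a)
      rw [show β.toNatTrans.app (ι.obj a) = α.toNatTrans.app a from congrArg (fun t => t.toNatTrans.app a) hβ]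
      haveI : F.toFunctor.IsHomLift (𝟙 (𝒜.p.obj a)) (α.toNatTrans.app a) := α.isHomLift' a
      refine (IsHomLift.fac' F.toFunctor (𝟙 (𝒜.p.obj a)) (α.toNatTrans.app a)).trans ?_
      simp [γ, eqToHom_app]
    refine ⟨{ toNatTrans := β.toNatTrans, isHomLift' := fun b => ?_ }, bnt_ext fun a =>
      congrArg (fun t => t.toNatTrans.app a) hβ⟩
    refine isHomLift_id_of_eq _ _ (G.w_obj b) (G'.w_obj b) ?_
    refine (congrArg (fun t => t.toNatTrans.app b) hγ).trans ?_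
    simp [γ, eqToHom_app]
  · obtain ⟨G, ⟨i⟩⟩ := Functor.EssSurj.mem_essImage (F := Stk.restr (downMap 𝒴 ι) 𝒳) (downTo F K)
    let k : BasedFunctor.comp (downTo F K) F ≅ strFun 𝒜 :=
      BasedNatIso.mkNatIso (wIso K) fun a => by
        rw [wIso_app]
        exact isHomLift_id_of_eq _ _ (congrArg 𝒴.p.obj (K.w_obj a)) rfl (by simp [eqToHom_map])
    obtain ⟨θ, hθ⟩ := (Stk.restr (downMap 𝒴 ι) 𝒴).map_surjective (X := BasedFunctor.comp G F) (Y := strFun ℬ)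
      ((whiskerRightIso' i F).hom ≫ k.hom ≫ (strIso ι).inv)
    haveI := isIso_bnt θ
    haveI : IsIso (X := (BasedFunctor.comp G F).toFunctor) θ.toNatTrans := inferInstance
    obtain ⟨G', e, he⟩ := exists_strictify (𝒵 := Z) (𝒲 := ℬ) G.toFunctor
      (@asIso _ _ (G.toFunctor ⋙ F.toFunctor) ℬ.p θ.toNatTrans this)
    let ν : ι.toFunctor ⋙ G'.toFunctor ≅ K.toFunctor :=
      Functor.isoWhiskerLeft ι.toFunctor e.symm ≪≫ (BasedNatTrans.forgetful _ _).mapIso i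
    refine ⟨G', ⟨BasedNatIso.mkNatIso ν fun a => ?_⟩⟩
    refine isHomLift_id_of_eq _ _ ((G'.w_obj _).trans (ι.w_obj a)) (K.w_obj a) ?_
    change F.map (ν.hom.app a) = _
    have h1 : F.map (e.hom.app (ι.obj a)) = θ.toNatTrans.app (ι.obj a) ≫ eqToHom (G'.w_obj _).symm := by
      refine (@IsHomLift.fac' _ _ _ _ F.toFunctor _ _ _ _ (θ.toNatTrans.app (ι.obj a)) (e.hom.app (ι.obj a))
        (he (ι.obj a))).trans ?_
      simp
    have h2 : θ.toNatTrans.app (ι.obj a) = F.map (i.hom.toNatTrans.app a) ≫ eqToHom (K.w_obj a) ≫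
        eqToHom (ι.w_obj a).symm := by
      refine (congrArg (fun t => t.toNatTrans.app a) hθ).trans ?_
      simp [k, strIso, wIso, eqToHom_app, whiskerRightIso', BasedNatIso.mkNatIso]
    haveI : IsIso (F.map (e.hom.app (ι.obj a))) := inferInstance
    rw [← cancel_epi (F.map (e.hom.app (ι.obj a))), ← F.toFunctor.map_comp]
    rw [show e.hom.app (ι.obj a) ≫ ν.hom.app a = i.hom.toNatTrans.app a by simp [ν], h1, h2]
    simp

end Down

end StkTopLib
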