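import Groth.Agent.StkTopLib.Change

/-!
# Restriction along a cofinal functor
-/

set_option autoImplicit false
set_option backward.isDefEq.respectTransparency false
set_option backward.isDefEq.respectTransparency.types false

universe v₁ u₁ v₂ u₂ v₃ u₃ v u

open CategoryTheory FibCat FibLib AlgStLib
open CategoryTheory.Functor (Fiber IsStronglyCartesian)

namespace StkTopLib

variable {D : Type u} [Category.{v} D] {𝒮 : BasedCategory.{v₁, u₁} D} [IsFibGrpd 𝒮.p]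
  {ℬ : BasedCategory.{v₂, u₂} D} {A : Type u₃} [Category.{v₃} A] (Φ : A ⥤ ℬ.obj)

/-- The source of a functor into a category over `D`, as a category over `D`. -/
abbrev srcCat : BasedCategory.{v₃, u₃} D := BasedCategory.ofFunctor (Φ ⋙ ℬ.p)

/-- A functor into a category over `D`, over `D`. -/
abbrev srcFun : srcCat Φ ⥤ᵇ ℬ := ⟨Φ, rfl⟩

/-- Each comma category under an object is cofiltered. -/
structure CofilteredUnder : Prop where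
  nonempty : ∀ T : ℬ.obj, ∃ a : A, Nonempty (T ⟶ Φ.obj a)
  pair : ∀ {T : ℬ.obj} {a b : A} (g : T ⟶ Φ.obj a) (h : T ⟶ Φ.obj b),
    ∃ (c : A) (π : c ⟶ a) (π' : c ⟶ b) (l : T ⟶ Φ.obj c), l ≫ Φ.map π = g ∧ l ≫ Φ.map π' = h
  equalize : ∀ {T : ℬ.obj} {a b : A} (k k' : a ⟶ b) (g : T ⟶ Φ.obj a), g ≫ Φ.map k = g ≫ Φ.map k' →
    ∃ (c : A) (e : c ⟶ a) (l : T ⟶ Φ.obj c), l ≫ Φ.map e = g ∧ e ≫ k = e ≫ k'

variable {Φ}

lemma lift_srcMap (K : srcCat Φ ⥤ᵇ 𝒮) {a b : A} (k : a ⟶ b) :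
    𝒮.p.IsHomLift (ℬ.p.map (Φ.map k)) (K.map k) :=
  @BasedFunctor.preserves_isHomLift _ _ _ _ K _ _ a b (ℬ.p.map (Φ.map k)) k (IsHomLift.map (Φ ⋙ ℬ.p) k)

lemma lift_map' (L : ℬ ⥤ᵇ 𝒮) {T T' : ℬ.obj} (g : T ⟶ T') : 𝒮.p.IsHomLift (ℬ.p.map g) (L.map g) :=
  @BasedFunctor.preserves_isHomLift _ _ _ _ L _ _ T T' (ℬ.p.map g) g (IsHomLift.map ℬ.p g)

/-- Morphisms over the same arrow with the same composite are equal. -/
lemma hom_ext_of_comp {R S : D} {T : D} (f : T ⟶ R) (g : R ⟶ S) {x y z : 𝒮.obj} {φ φ' : x ⟶ y}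
    [𝒮.p.IsHomLift f φ] [𝒮.p.IsHomLift f φ'] (ψ : y ⟶ z) [𝒮.p.IsHomLift g ψ] (h : φ ≫ ψ = φ' ≫ ψ) :
    φ = φ' := by
  haveI := isStronglyCartesian_of_isFibGrpd (p := 𝒮.p) g ψ
  exact IsStronglyCartesian.ext 𝒮.p g ψ f h

theorem restr_srcFun_isEquivalence (hΦ : CofilteredUnder Φ) :
    (Stk.restr (srcFun Φ) 𝒮).IsEquivalence := by
  choose a₀ hg₀ using hΦ.nonempty
  let g₀ : ∀ T, T ⟶ Φ.obj (a₀ T) := fun T => (hg₀ T).some
  refine { faithful := ⟨fun {K L α β} h => ?_⟩, full := ⟨fun {K L} δ => ?_⟩, essSurj := ⟨fun K => ?_⟩ }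
  · refine bnt_ext fun T => ?_
    haveI := lift_map' L (g₀ T)
    haveI : 𝒮.p.IsHomLift (𝟙 (ℬ.p.obj T)) (α.toNatTrans.app T) := α.isHomLift' T
    haveI : 𝒮.p.IsHomLift (𝟙 (ℬ.p.obj T)) (β.toNatTrans.app T) := β.isHomLift' T
    refine hom_ext_of_comp (𝟙 (ℬ.p.obj T)) (ℬ.p.map (g₀ T)) (L.map (g₀ T)) ?_
    rw [← α.toNatTrans.naturality, ← β.toNatTrans.naturality]
    exact congrArg (K.map (g₀ T) ≫ ·) (congrArg (fun t => t.toNatTrans.app (a₀ T)) h)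
  · have key : ∀ T, ∃ c : K.obj T ⟶ L.obj T, 𝒮.p.IsHomLift (𝟙 (ℬ.p.obj T)) c ∧
        ∀ (a : A) (g : T ⟶ Φ.obj a), c ≫ L.map g = K.map g ≫ δ.toNatTrans.app a := fun T => by
      have hd : ∀ a : A, 𝒮.p.IsHomLift (𝟙 (ℬ.p.obj (Φ.obj a))) (δ.toNatTrans.app a) := fun a => δ.isHomLift' a
      haveI := lift_map' K (g₀ T)
      haveI := lift_map' L (g₀ T)
      haveI := hd (a₀ T)
      haveI : 𝒮.p.IsHomLift (ℬ.p.map (g₀ T)) (K.map (g₀ T) ≫ δ.toNatTrans.app (a₀ T)) :=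
        IsHomLift.comp_lift_id_right 𝒮.p (ℬ.p.map (g₀ T)) (K.map (g₀ T)) (δ.toNatTrans.app (a₀ T))
      haveI := isStronglyCartesian_of_isFibGrpd (p := 𝒮.p) (ℬ.p.map (g₀ T)) (L.map (g₀ T))
      let c := IsStronglyCartesian.map 𝒮.p (ℬ.p.map (g₀ T)) (L.map (g₀ T)) (g := 𝟙 (ℬ.p.obj T))
        (Category.id_comp _).symm (K.map (g₀ T) ≫ δ.toNatTrans.app (a₀ T))
      haveI : 𝒮.p.IsHomLift (𝟙 (ℬ.p.obj T)) c :=
        IsStronglyCartesian.map_isHomLift 𝒮.p (ℬ.p.map (g₀ T)) (L.map (g₀ T)) _ _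
      have hc : c ≫ L.map (g₀ T) = K.map (g₀ T) ≫ δ.toNatTrans.app (a₀ T) := IsStronglyCartesian.fac 𝒮.p _ _ _ _
      refine ⟨c, inferInstance, fun a g => ?_⟩
      obtain ⟨p', π₀, π, l, h₀, h₁⟩ := hΦ.pair (g₀ T) g
      have hn : ∀ {b : A} (k : p' ⟶ b), K.map (l ≫ Φ.map k) ≫ δ.toNatTrans.app b =
          (K.map l ≫ δ.toNatTrans.app p') ≫ L.map (Φ.map k) := fun k => by
        rw [K.toFunctor.map_comp, Category.assoc, Category.assoc]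
        exact congrArg (K.map l ≫ ·) (δ.toNatTrans.naturality k)
      have hl : c ≫ L.map l = K.map l ≫ δ.toNatTrans.app p' := by
        haveI := lift_map' K l
        haveI := lift_map' L l
        haveI := hd p'
        haveI := lift_map' L (Φ.map π₀)
        haveI : 𝒮.p.IsHomLift (ℬ.p.map l) (K.map l ≫ δ.toNatTrans.app p') :=
          IsHomLift.comp_lift_id_right 𝒮.p (ℬ.p.map l) (K.map l) (δ.toNatTrans.app p')
        haveI : 𝒮.p.IsHomLift (ℬ.p.map l) (c ≫ L.map l) :=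
          IsHomLift.comp_lift_id_left' 𝒮.p (ℬ.p.obj T) c (ℬ.p.map l) (L.map l)
        refine hom_ext_of_comp (ℬ.p.map l) (ℬ.p.map (Φ.map π₀)) (L.map (Φ.map π₀)) ?_
        rw [Category.assoc, ← L.toFunctor.map_comp, h₀, hc, ← hn, h₀]
      rw [← h₁, hn, L.toFunctor.map_comp, ← hl, Category.assoc]
    choose c hc hc' using key
    refine ⟨{ app := c, naturality := fun T T' m => ?_, isHomLift' := hc },
      bnt_ext fun a => ?_⟩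
    · haveI := hc T
      haveI := hc T'
      haveI := lift_map' K m
      haveI := lift_map' L m
      haveI := lift_map' L (g₀ T')
      haveI : 𝒮.p.IsHomLift (ℬ.p.map m) (K.map m ≫ c T') :=
        IsHomLift.comp_lift_id_right 𝒮.p (ℬ.p.map m) (K.map m) (c T')
      haveI : 𝒮.p.IsHomLift (ℬ.p.map m) (c T ≫ L.map m) :=
        IsHomLift.comp_lift_id_left' 𝒮.p (ℬ.p.obj T) (c T) (ℬ.p.map m) (L.map m)
      refine hom_ext_of_comp (ℬ.p.map m) (ℬ.p.map (g₀ T')) (L.map (g₀ T')) ?_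
      rw [Category.assoc, Category.assoc, hc' T', ← L.toFunctor.map_comp, hc' T, K.toFunctor.map_comp,
        Category.assoc]
    · have := hc' (Φ.obj a) a (𝟙 _)
      rw [K.toFunctor.map_id, L.toFunctor.map_id] at this
      exact (Category.comp_id _).symm.trans (this.trans (Category.id_comp _))
  · -- lifts
    have hbase : ∀ T, ∃ (e : 𝒮.obj) (m₀ : e ⟶ K.obj (a₀ T)), 𝒮.p.IsHomLift (ℬ.p.map (g₀ T)) m₀ := fun T =>
      exists_lift 𝒮.p (K.w_obj (a₀ T)) (ℬ.p.map (g₀ T))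
    choose E m₀ hm₀ using hbase
    let Adm : ∀ (T : ℬ.obj) (a : A) (g : T ⟶ Φ.obj a), (E T ⟶ K.obj a) → Prop := fun T a g m =>
      ∃ (q : A) (π₀ : q ⟶ a₀ T) (π : q ⟶ a) (l : T ⟶ Φ.obj q) (χ : E T ⟶ K.obj q),
        𝒮.p.IsHomLift (ℬ.p.map l) χ ∧ l ≫ Φ.map π₀ = g₀ T ∧ l ≫ Φ.map π = g ∧ χ ≫ K.map π₀ = m₀ T ∧
          χ ≫ K.map π = m
    have mk : ∀ (T : ℬ.obj) (q : A) (π₀ : q ⟶ a₀ T) (l : T ⟶ Φ.obj q), l ≫ Φ.map π₀ = g₀ T →
        ∃ χ : E T ⟶ K.obj q, 𝒮.p.IsHomLift (ℬ.p.map l) χ ∧ χ ≫ K.map π₀ = m₀ T := fun T q π₀ l hl => by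
      haveI := hm₀ T
      haveI := lift_srcMap K π₀
      haveI := isStronglyCartesian_of_isFibGrpd (p := 𝒮.p) (ℬ.p.map (Φ.map π₀)) (K.map π₀)
      have e : ℬ.p.map (g₀ T) = ℬ.p.map l ≫ ℬ.p.map (Φ.map π₀) := by rw [← ℬ.p.map_comp, hl]
      exact ⟨IsStronglyCartesian.map 𝒮.p (ℬ.p.map (Φ.map π₀)) (K.map π₀) e (m₀ T),
        IsStronglyCartesian.map_isHomLift 𝒮.p _ _ e _, IsStronglyCartesian.fac 𝒮.p _ _ e _⟩
    have ex : ∀ (T : ℬ.obj) (a : A) (g : T ⟶ Φ.obj a), ∃ m, Adm T a g m := fun T a g => by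
      obtain ⟨q, π₀, π, l, h₀, h₁⟩ := hΦ.pair (g₀ T) g
      obtain ⟨χ, hχ, hχ'⟩ := mk T q π₀ l h₀
      exact ⟨_, q, π₀, π, l, χ, hχ, h₀, h₁, hχ', rfl⟩
    have uniq : ∀ (T : ℬ.obj) (a : A) (g : T ⟶ Φ.obj a) (m m' : E T ⟶ K.obj a),
        Adm T a g m → Adm T a g m' → m = m' := by
      rintro T a g m m' ⟨q, π₀, π, l, χ, hχ, h₀, h₁, e₀, rfl⟩ ⟨q', π₀', π', l', χ', hχ', h₀', h₁', e₀', rfl⟩
      obtain ⟨r, ρ, ρ', w₁, hρ, hρ'⟩ := hΦ.pair l l'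
      obtain ⟨r₂, ε₁, w₂, hε₁, hk⟩ := hΦ.equalize (ρ ≫ π₀) (ρ' ≫ π₀') w₁ (by
        rw [Φ.map_comp, Φ.map_comp, ← Category.assoc, ← Category.assoc, hρ, hρ', h₀, h₀'])
      obtain ⟨r₃, ε₂, w₃, hε₂, hk'⟩ := hΦ.equalize (ε₁ ≫ ρ ≫ π) (ε₁ ≫ ρ' ≫ π') w₂ (by
        simp only [Φ.map_comp, reassoc_of% hε₁, reassoc_of% hρ, reassoc_of% hρ', h₁, h₁'])
      have hl₀ : w₃ ≫ Φ.map (ε₂ ≫ ε₁ ≫ ρ ≫ π₀) = g₀ T := by
        simp only [Φ.map_comp, reassoc_of% hε₂, reassoc_of% hε₁, reassoc_of% hρ, h₀]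
      obtain ⟨ψ, hψ, hψ'⟩ := mk T r₃ (ε₂ ≫ ε₁ ≫ ρ ≫ π₀) w₃ hl₀
      have step : ∀ (q : A) (ρ : r ⟶ q) (π₀ : q ⟶ a₀ T) (l : T ⟶ Φ.obj q) (χ : E T ⟶ K.obj q),
          w₁ ≫ Φ.map ρ = l → 𝒮.p.IsHomLift (ℬ.p.map l) χ → χ ≫ K.map π₀ = m₀ T →
          ψ ≫ K.map (ε₂ ≫ ε₁ ≫ ρ ≫ π₀) = m₀ T → ψ ≫ K.map (ε₂ ≫ ε₁ ≫ ρ) = χ := by
        intro q ρ π₀ l χ hl hχ e₀ e
        haveI := hχ
        haveI := hψ
        haveI := lift_srcMap K π₀
        haveI := lift_srcMap K (ε₂ ≫ ε₁ ≫ ρ)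
        haveI : 𝒮.p.IsHomLift (ℬ.p.map l) (ψ ≫ K.map (ε₂ ≫ ε₁ ≫ ρ)) := by
          have hl' : ℬ.p.map l = ℬ.p.map w₃ ≫ ℬ.p.map (Φ.map (ε₂ ≫ ε₁ ≫ ρ)) := by
            rw [← ℬ.p.map_comp]
            simp only [Φ.map_comp, reassoc_of% hε₂, reassoc_of% hε₁, hl]
          rw [hl']
          infer_instance
        refine hom_ext_of_comp (ℬ.p.map l) (ℬ.p.map (Φ.map π₀)) (K.map π₀) ?_
        rw [e₀, Category.assoc, ← K.toFunctor.map_comp]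
        refine Eq.trans ?_ e
        simp
      have s₁ := step q ρ π₀ l χ hρ hχ e₀ hψ'
      have s₂ := step q' ρ' π₀' l' χ' hρ' hχ' e₀' (by rw [← hk]; exact hψ')
      rw [← s₁, ← s₂, Category.assoc, Category.assoc, ← K.toFunctor.map_comp, ← K.toFunctor.map_comp]
      refine congrArg (fun k => ψ ≫ K.map k) ?_
      simpa [Category.assoc] using hk'
    choose M hM using ex
    have hMlift : ∀ (T : ℬ.obj) (a : A) (g : T ⟶ Φ.obj a), 𝒮.p.IsHomLift (ℬ.p.map g) (M T a g) := fun T a g => by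
      obtain ⟨q, π₀, π, l, χ, hχ, h₀, h₁, e₀, e₁⟩ := hM T a g
      haveI := hχ
      haveI := lift_srcMap K π
      rw [← e₁, ← h₁, ℬ.p.map_comp]
      infer_instance
    have hMk : ∀ (T : ℬ.obj) {a b : A} (g : T ⟶ Φ.obj a) (k : a ⟶ b),
        M T a g ≫ K.map k = M T b (g ≫ Φ.map k) := fun T a b g k => by
      obtain ⟨q, π₀, π, l, χ, hχ, h₀, h₁, e₀, e₁⟩ := hM T a g
      refine uniq T b _ _ _ ⟨q, π₀, π ≫ k, l, χ, hχ, h₀, ?_, e₀, ?_⟩ (hM T b _)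
      · rw [Φ.map_comp, ← Category.assoc, h₁]
      · rw [K.toFunctor.map_comp, ← Category.assoc, e₁]
    -- morphisms
    have hmap : ∀ {T T' : ℬ.obj} (h : T ⟶ T'), ∃ f : E T ⟶ E T', 𝒮.p.IsHomLift (ℬ.p.map h) f ∧
        ∀ (a : A) (g : T' ⟶ Φ.obj a), f ≫ M T' a g = M T a (h ≫ g) := fun {T T'} h => by
      haveI := hMlift T' (a₀ T') (g₀ T')
      haveI := hMlift T (a₀ T') (h ≫ g₀ T')
      haveI := isStronglyCartesian_of_isFibGrpd (p := 𝒮.p) (ℬ.p.map (g₀ T')) (M T' (a₀ T') (g₀ T'))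
      have e : ℬ.p.map (h ≫ g₀ T') = ℬ.p.map h ≫ ℬ.p.map (g₀ T') := ℬ.p.map_comp _ _
      let f := IsStronglyCartesian.map 𝒮.p (ℬ.p.map (g₀ T')) (M T' (a₀ T') (g₀ T')) e (M T (a₀ T') (h ≫ g₀ T'))
      haveI hf : 𝒮.p.IsHomLift (ℬ.p.map h) f := IsStronglyCartesian.map_isHomLift 𝒮.p _ _ e _
      have hf' : f ≫ M T' (a₀ T') (g₀ T') = M T (a₀ T') (h ≫ g₀ T') := IsStronglyCartesian.fac 𝒮.p _ _ e _
      refine ⟨f, hf, fun a g => ?_⟩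
      obtain ⟨q, π₀, π, l, h₀, h₁⟩ := hΦ.pair (g₀ T') g
      have hl : f ≫ M T' q l = M T q (h ≫ l) := by
        haveI := hMlift T' q l
        haveI := hMlift T q (h ≫ l)
        haveI := lift_srcMap K π₀
        haveI : 𝒮.p.IsHomLift (ℬ.p.map (h ≫ l)) (f ≫ M T' q l) := by rw [ℬ.p.map_comp]; infer_instance
        refine hom_ext_of_comp (ℬ.p.map (h ≫ l)) (ℬ.p.map (Φ.map π₀)) (K.map π₀) ?_
        rw [Category.assoc, hMk, hMk, h₀, Category.assoc, h₀, hf']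
      rw [← h₁, ← hMk, ← Category.assoc, hl, hMk, Category.assoc]
    choose Emap hElift hE using @hmap
    have hext : ∀ {T T' : ℬ.obj} (h : T ⟶ T') (φ : E T ⟶ E T'), 𝒮.p.IsHomLift (ℬ.p.map h) φ →
        φ ≫ M T' (a₀ T') (g₀ T') = M T (a₀ T') (h ≫ g₀ T') → φ = Emap h := fun {T T'} h φ hφ e => by
      haveI := hφ
      haveI := hElift h
      haveI := hMlift T' (a₀ T') (g₀ T')
      exact hom_ext_of_comp (ℬ.p.map h) (ℬ.p.map (g₀ T')) (M T' (a₀ T') (g₀ T')) (e.trans (hE h _ _).symm)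
    have hobj : ∀ T, 𝒮.p.obj (E T) = ℬ.p.obj T := fun T => IsHomLift.domain_eq 𝒮.p (ℬ.p.map (g₀ T)) (m₀ T)
    let G₀ : ℬ.obj ⥤ 𝒮.obj :=
      { obj := E
        map := fun h => Emap h
        map_id := fun T => (hext (𝟙 T) (𝟙 (E T)) (by rw [ℬ.p.map_id]; exact IsHomLift.id (hobj T))
          (by rw [Category.id_comp, Category.id_comp])).symm
        map_comp := fun {T T' T''} h h' => (hext (h ≫ h') (Emap h ≫ Emap h') (by
            haveI := hElift h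
            haveI := hElift h'
            rw [ℬ.p.map_comp]
            infer_instance) (by
            rw [Category.assoc, hE, hE, Category.assoc])).symm }
    let G : ℬ ⥤ᵇ 𝒮 :=
      { toFunctor := G₀
        w := CategoryTheory.Functor.ext hobj fun T T' h => by
          haveI := hElift h
          exact IsHomLift.fac' 𝒮.p (ℬ.p.map h) (Emap h) }
    have hiso : ∀ a : A, 𝒮.p.IsHomLift (𝟙 (ℬ.p.obj (Φ.obj a))) (M (Φ.obj a) a (𝟙 _)) := fun a => by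
      rw [← ℬ.p.map_id]
      exact hMlift _ _ _
    haveI : ∀ a : A, IsIso (M (Φ.obj a) a (𝟙 _)) := fun a => by
      haveI := hiso a
      exact isIso_of_isHomLift (p := 𝒮.p) (𝟙 (ℬ.p.obj (Φ.obj a))) _
    let ν : Φ ⋙ G.toFunctor ≅ K.toFunctor := NatIso.ofComponents (fun a => asIso (M (Φ.obj a) a (𝟙 _)))
      (fun {a b} k => by
        show Emap (Φ.map k) ≫ M (Φ.obj b) b (𝟙 _) = M (Φ.obj a) a (𝟙 _) ≫ K.map k
        rw [hE, hMk, Category.comp_id, Category.id_comp])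
    exact ⟨G, ⟨BasedNatIso.mkNatIso ν hiso⟩⟩

end StkTopLib
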